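/-
The element orders of the Janko group `J₁`.
-/
import Cfsg.Agent.H88.J1Out

set_option autoImplicit false
set_option maxRecDepth 100000

namespace Cfsg.Agent.H6

open Subgroup Cfsg.Spor Cfsg.Agent.H88 Cfsg.Agent.H88.J1

/-- Sylow arithmetic for a Sylow subgroup `⟨x⟩` of prime order. -/
theorem card_cent_of_prime {G : Type*} [Group G] [Finite G] {p : ℕ} (hp : p.Prime) {x g : G}
    (ox : orderOf x = p) (h2 : ¬ p ^ 2 ∣ Nat.card G) {a : ℕ} (hg : g * x = x ^ a * g) :
    ∃ c d n, Nat.card (centralizer {x}) = p * c ∧ d ∣ p - 1 ∧ a ^ d ≡ 1 [MOD p] ∧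
      n ≡ 1 [MOD p] ∧ Nat.card G = p * c * d * n := by
  have := Fact.mk hp
  have hf : (Nat.card G).factorization p = 1 := by
    have h1 : p ∣ Nat.card G := ox ▸ orderOf_dvd_natCard x
    have a1 := (hp.dvd_iff_one_le_factorization Nat.card_pos.ne').1 h1
    have a2 : ¬ 2 ≤ (Nat.card G).factorization p :=
      fun h => h2 ((hp.pow_dvd_iff_le_factorization Nat.card_pos.ne').2 h)
    omega
  let P : Sylow p G := Sylow.ofCard (zpowers x) (by rw [Nat.card_zpowers, ox, hf, pow_one])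
  have hP : (P : Subgroup G) = zpowers x := rfl
  have hc : centralizer ((zpowers x : Subgroup G) : Set G) = centralizer {x} := by
    rw [zpowers_eq_closure, centralizer_closure]
  obtain ⟨c, hcc⟩ : p ∣ Nat.card (centralizer {x}) := by
    rw [← ox, ← Nat.card_zpowers]
    exact card_dvd_of_le (zpowers_le.2 (mem_centralizer_singleton_iff.2 rfl))
  have hgx : g * x * g⁻¹ = x ^ a := by rw [hg, mul_inv_cancel_right]
  have hgN : g ∈ normalizer ((zpowers x : Subgroup G) : Set G) := by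
    refine mem_normalizer_fintype fun y hy => ?_
    obtain ⟨k, rfl⟩ := mem_zpowers_iff.1 hy
    rw [← conj_zpow, hgx]
    exact zpow_mem (pow_mem (mem_zpowers x) a) k
  set φ := (zpowers x).normalizerMonoidHom with hφ
  refine ⟨c, φ.ker.index, (normalizer ((zpowers x : Subgroup G) : Set G)).index, hcc, ?_, ?_, ?_, ?_⟩
  · rw [index_ker]
    refine (card_subgroup_dvd_card _).trans ?_
    rw [IsCyclic.card_mulAut, Nat.card_zpowers, ox, Nat.totient_prime hp]
  · have h1 := φ.ker.pow_index_mem ⟨g, hgN⟩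
    generalize φ.ker.index = d at h1
    rw [hφ, normalizerMonoidHom_ker, hc, mem_subgroupOf, mem_centralizer_singleton_iff] at h1
    have h3 : ∀ k : ℕ, g ^ k * x * (g ^ k)⁻¹ = x ^ a ^ k := by
      intro k
      induction k with
      | zero => simp
      | succ k ih =>
        rw [pow_succ' g, show g * g ^ k * x * (g * g ^ k)⁻¹ = g * (g ^ k * x * (g ^ k)⁻¹) * g⁻¹ by group,
          ih, ← conj_pow, hgx, ← pow_mul, pow_succ']
    have h4 := h3 d
    rw [show g ^ d * x = x * g ^ d from h1, mul_inv_cancel_right] at h4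
    rw [← ox, ← pow_eq_pow_iff_modEq, pow_one]
    exact h4.symm
  · have := card_sylow_modEq_one p G
    rwa [P.card_eq_index_normalizer] at this
  · rw [← hcc, ← hc, ← card_mul_index (normalizer ((zpowers x : Subgroup G) : Set G)),
      ← card_mul_index φ.ker, hφ, normalizerMonoidHom_ker,
      Nat.card_congr (subgroupOfEquivOfLe (centralizer_le_normalizer _)).toEquiv]

theorem j1_odd_cent {x : J1} {p : ℕ} (ox : orderOf x = p) (h : ¬ p ∣ 30) :
    ¬ 2 ∣ Nat.card (centralizer {x}) := by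
  intro h2
  obtain ⟨u, hu⟩ := exists_prime_orderOf_dvd_card' 2 h2
  have hu' : orderOf (u : J1) = 2 := (orderOf_coe u).trans hu
  refine h (ox ▸ orderOf_dvd_of_pow_eq_one (jhyp.pow30 (u := u) ?_ ?_ ?_))
  · rw [← pow_two, ← hu', pow_orderOf_eq_one]
  · intro e; rw [e, orderOf_one] at hu'; omega
  · exact (mem_centralizer_singleton_iff.1 u.2).symm

theorem orderOf_dvd_of_cent {G : Type*} [Group G] [Finite G] {p : ℕ} (hp : p.Prime)
    (h2 : ¬ p ^ 2 ∣ Nat.card G) {x w : G} (ox : orderOf x = p) (ow : orderOf w = p)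
    (h : Nat.card (centralizer {x}) = p) {y : G} (hy : y * w = w * y) : orderOf y ∣ p := by
  obtain ⟨g, k, hk⟩ := exists_conj_mem_zpowers hp h2 ox ow
  have hk : w ^ k = g * x * g⁻¹ := hk
  have h1 : y * (g * x * g⁻¹) = g * x * g⁻¹ * y := hk ▸ (Commute.zpow_right hy k).eq
  have hm : g⁻¹ * y * g ∈ centralizer {x} := mem_centralizer_singleton_iff.2 (by
    calc g⁻¹ * y * g * x = g⁻¹ * (y * (g * x * g⁻¹)) * g := by group
      _ = _ := by rw [h1]; group)
  have h3 : (⟨_, hm⟩ : centralizer {x}) ^ p = 1 := by rw [← h]; exact pow_card_eq_one'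
  have h4 : (g⁻¹ * y * g⁻¹⁻¹) ^ p = 1 := by rw [inv_inv]; exact congrArg Subtype.val h3
  rw [conj_pow, conj_eq_one_iff] at h4
  exact orderOf_dvd_of_pow_eq_one h4

theorem j1_norm7 : ∃ g : J1, g * jX = jX ^ 3 * g :=
  ⟨js * jX * jt * jX * js * jX * jt * jr⁻¹ * jX⁻¹ * js * jX⁻¹ * jX⁻¹ * jt * js, ((((((((((((((rs.mul rX).mul rt).mul rX).mul rs).mul rX).mul rt).mul rr').mul rX').mul rs).mul rX').mul rX').mul rt).mul rs).mul rX).eq
    ((rX.pow 3).mul (((((((((((((rs.mul rX).mul rt).mul rX).mul rs).mul rX).mul rt).mul rr').mul rX').mul rs).mul rX').mul rX').mul rt).mul rs)) (by decide +kernel)⟩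

theorem j1_norm11 : ∃ g : J1, g * j11 = j11 ^ 2 * g :=
  ⟨jr * jX * jt * jX * js * jX⁻¹ * js * jX⁻¹ * jt * js * jX, (((((((((((rr.mul rX).mul rt).mul rX).mul rs).mul rX').mul rs).mul rX').mul rt).mul rs).mul rX).mul r11).eq
    ((r11.pow 2).mul ((((((((((rr.mul rX).mul rt).mul rX).mul rs).mul rX').mul rs).mul rX').mul rt).mul rs).mul rX)) (by decide +kernel)⟩

theorem j1_norm19 : ∃ g : J1, g * j19 = j19 ^ 8 * g :=
  ⟨jt * jr⁻¹ * js * jX * js * jX⁻¹ * jt * jX⁻¹ * jr, (((((((((rt.mul rr').mul rs).mul rX).mul rs).mul rX').mul rt).mul rX').mul rr).mul r19).eq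
    ((r19.pow 8).mul ((((((((rt.mul rr').mul rs).mul rX).mul rs).mul rX').mul rt).mul rX').mul rr)) (by decide +kernel)⟩

theorem j1_cent7 : Nat.card (centralizer {jX}) = 7 := by
  obtain ⟨g, hg⟩ := j1_norm7
  obtain ⟨c, d, n, h1, h2, h3, h4, h5⟩ :=
    card_cent_of_prime (by norm_num) ord_y (by rw [card_J1]; norm_num) hg
  have h6 := j1_odd_cent ord_y (by norm_num)
  rw [card_J1] at h5
  have : d ≤ 6 := Nat.le_of_dvd (by norm_num) h2
  obtain rfl : d = 6 := by interval_cases d <;> simp_all [Nat.ModEq]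
  have h7 : c ∈ Nat.divisors 4180 := Nat.mem_divisors.2 ⟨⟨n, by nlinarith⟩, by norm_num⟩
  have h8 : c * n = 4180 := by nlinarith
  rw [h1] at h6 ⊢
  have h9 : ∀ c ∈ Nat.divisors 4180, c % 7 = 1 → 2 ∣ 7 * c ∨ c = 1 := by decide +kernel
  have h10 : c % 7 = 1 := by
    have := congrArg (· % 7) h8
    simp only [Nat.mul_mod c n, show n % 7 = 1 from h4] at this
    omega
  rw [(h9 c h7 h10).resolve_left h6]

theorem j1_dvd7 {w y : J1} (ow : orderOf w = 7) (hy : y * w = w * y) : orderOf y ∣ 7 :=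
  orderOf_dvd_of_cent (by norm_num) (by rw [card_J1]; norm_num) ord_y ow j1_cent7 hy

theorem j1_not7 {x : J1} (ox : ¬ orderOf x ∣ 7) : ¬ 7 ∣ Nat.card (centralizer {x}) := by
  intro h
  have := Fact.mk (by norm_num : Nat.Prime 7)
  obtain ⟨u, hu⟩ := exists_prime_orderOf_dvd_card' 7 h
  exact ox (j1_dvd7 ((orderOf_coe u).trans hu) (mem_centralizer_singleton_iff.1 u.2).symm)

theorem j1_cent11 : Nat.card (centralizer {j11}) = 11 := by
  obtain ⟨g, hg⟩ := j1_norm11
  obtain ⟨c, d, n, h1, h2, h3, h4, h5⟩ :=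
    card_cent_of_prime (by norm_num) ord_11 (by rw [card_J1]; norm_num) hg
  have h6 := j1_odd_cent ord_11 (by norm_num)
  have h6' := j1_not7 (x := j11) (by rw [ord_11]; norm_num)
  rw [card_J1] at h5
  have : d ≤ 10 := Nat.le_of_dvd (by norm_num) h2
  obtain rfl : d = 10 := by interval_cases d <;> simp_all [Nat.ModEq]
  have h7 : c ∈ Nat.divisors 1596 := Nat.mem_divisors.2 ⟨⟨n, by nlinarith⟩, by norm_num⟩
  have h8 : c * n = 1596 := by nlinarith
  rw [h1] at h6 h6' ⊢
  have h9 : ∀ c ∈ Nat.divisors 1596, c % 11 = 1 → 2 ∣ 11 * c ∨ 7 ∣ 11 * c ∨ c = 1 := by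
    decide +kernel
  have h10 : c % 11 = 1 := by
    have := congrArg (· % 11) h8
    simp only [Nat.mul_mod c n, show n % 11 = 1 from h4] at this
    omega
  rw [((h9 c h7 h10).resolve_left h6).resolve_left h6']

theorem j1_cent19 : Nat.card (centralizer {j19}) = 19 := by
  obtain ⟨g, hg⟩ := j1_norm19
  obtain ⟨c, d, n, h1, h2, h3, h4, h5⟩ :=
    card_cent_of_prime (by norm_num) ord_19 (by rw [card_J1]; norm_num) hg
  have h6 := j1_odd_cent ord_19 (by norm_num)
  have h6' := j1_not7 (x := j19) (by rw [ord_19]; norm_num)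
  rw [card_J1] at h5
  have : d ≤ 18 := Nat.le_of_dvd (by norm_num) h2
  have h11 : d ∣ 175560 := ⟨19 * c * n, by rw [h5]; ring⟩
  obtain rfl : d = 6 := by clear h5; interval_cases d <;> simp_all [Nat.ModEq]
  have h7 : c ∈ Nat.divisors 1540 := Nat.mem_divisors.2 ⟨⟨n, by nlinarith⟩, by norm_num⟩
  have h8 : c * n = 1540 := by nlinarith
  rw [h1] at h6 h6' ⊢
  have h9 : ∀ c ∈ Nat.divisors 1540, c % 19 = 1 → 2 ∣ 19 * c ∨ 7 ∣ 19 * c ∨ c = 1 := by
    decide +kernel
  have h10 : c % 19 = 1 := by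
    have := congrArg (· % 19) h8
    simp only [Nat.mul_mod c n, show n % 19 = 1 from h4] at this
    omega
  rw [((h9 c h7 h10).resolve_left h6).resolve_left h6']

theorem T_exp' : ∀ a : T, a ^ 6 = 1 ∨ a ^ 10 = 1 := by decide +kernel

/-- every element order of `J₁` divides one of `6, 10, 15, 7, 11, 19` -/
theorem j1_orderOf (y : J1) : ∃ m ∈ [6, 10, 15, 7, 11, 19], orderOf y ∣ m := by
  have key : ∀ p, p ∣ orderOf y → orderOf (y ^ (orderOf y / p)) = p ∧
      y * y ^ (orderOf y / p) = y ^ (orderOf y / p) * y := fun p hp =>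
    ⟨orderOf_pow_orderOf_div (orderOf_pos y).ne' hp, (Commute.self_pow y _).eq⟩
  by_cases h7 : 7 ∣ orderOf y
  · exact ⟨7, by simp, j1_dvd7 (key 7 h7).1 (key 7 h7).2⟩
  by_cases h11 : 11 ∣ orderOf y
  · exact ⟨11, by simp, orderOf_dvd_of_cent (by norm_num) (by rw [card_J1]; norm_num) ord_11
      (key 11 h11).1 j1_cent11 (key 11 h11).2⟩
  by_cases h19 : 19 ∣ orderOf y
  · exact ⟨19, by simp, orderOf_dvd_of_cent (by norm_num) (by rw [card_J1]; norm_num) ord_19
      (key 19 h19).1 j1_cent19 (key 19 h19).2⟩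
  by_cases h2 : 2 ∣ orderOf y
  · obtain ⟨h3, h4⟩ := key 2 h2
    generalize y ^ (orderOf y / 2) = u at h3 h4
    obtain ⟨g, rfl⟩ := jhyp.conj (u := u) (by rw [← pow_two, ← h3, pow_orderOf_eq_one])
      (by intro e; rw [e, orderOf_one] at h3; omega)
    obtain ⟨a, rfl⟩ := jhyp.toCen.of_comm_conj g h4
    rcases T_exp' a with h | h
    · exact ⟨6, by simp, orderOf_dvd_of_pow_eq_one (by rw [conj_pow, ← map_pow, h]; simp)⟩
    · exact ⟨10, by simp, orderOf_dvd_of_pow_eq_one (by rw [conj_pow, ← map_pow, h]; simp)⟩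
  · refine ⟨15, by simp, ?_⟩
    have h0 : orderOf y ∣ 175560 := card_J1 ▸ orderOf_dvd_natCard y
    have h1 : orderOf y ∣ 15 * (2 ^ 3 * 7 * 11 * 19) := h0
    refine Nat.Coprime.dvd_of_dvd_mul_right ?_ h1
    refine Nat.Coprime.mul_right (Nat.Coprime.mul_right (Nat.Coprime.mul_right
      (Nat.Coprime.pow_right _ ?_) ?_) ?_) ?_ <;>
      exact ((Nat.Prime.coprime_iff_not_dvd (by norm_num)).2 ‹_›).symm

theorem j1_ord6 : orderOf (jt * jr) = 6 := by
  refine orderOf_eq_of_pow_and_pow_div_prime (by norm_num)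
    (((rt.mul rr).pow 6).eq Rep.one (by decide +kernel)) fun p hp hd => ?_
  have : p ≤ 6 := Nat.le_of_dvd (by norm_num) hd
  have h : p = 2 ∨ p = 3 := by interval_cases p <;> simp_all (decide := true)
  rcases h with rfl | rfl
  · exact ((rt.mul rr).pow 3).ne_one (by decide +kernel)
  · exact ((rt.mul rr).pow 2).ne_one (by decide +kernel)

theorem j1_ord10 : orderOf (jX * jt * jr⁻¹ * js) = 10 := by
  refine orderOf_eq_of_pow_and_pow_div_prime (by norm_num)
    (((((rX.mul rt).mul rr').mul rs).pow 10).eq Rep.one (by decide +kernel)) fun p hp hd => ?_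
  have : p ≤ 10 := Nat.le_of_dvd (by norm_num) hd
  have h : p = 2 ∨ p = 5 := by interval_cases p <;> simp_all (decide := true)
  rcases h with rfl | rfl
  · exact ((((rX.mul rt).mul rr').mul rs).pow 5).ne_one (by decide +kernel)
  · exact ((((rX.mul rt).mul rr').mul rs).pow 2).ne_one (by decide +kernel)

theorem j1_ord15 : orderOf (jX * js) = 15 := by
  refine orderOf_eq_of_pow_and_pow_div_prime (by norm_num)
    (((rX.mul rs).pow 15).eq Rep.one (by decide +kernel)) fun p hp hd => ?_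
  have : p ≤ 15 := Nat.le_of_dvd (by norm_num) hd
  have h : p = 3 ∨ p = 5 := by interval_cases p <;> simp_all (decide := true)
  rcases h with rfl | rfl
  · exact ((rX.mul rs).pow 5).ne_one (by decide +kernel)
  · exact ((rX.mul rs).pow 3).ne_one (by decide +kernel)

end Cfsg.Agent.H6
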