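import Cfsg.Agent.H22.PSolvable
import Cfsg.Agent.H1.Hall
import Cfsg.Agent.H3.Transfer2
import Cfsg.Agent.S0082

/-! Hall `p'`-subgroups of `p`-solvable groups; cyclic Sylow subgroups and `p`-solvability. -/

set_option autoImplicit false
set_option linter.style.haveILetI false
set_option linter.unusedSectionVars false

namespace Cfsg.Agent.H6

open Cfsg Subgroup

universe u

theorem piNum_or_of_ppowOrCoprime {p n : ℕ} (hp : p.Prime) (h : H22.PPowOrCoprime p n) :
    H1.PiNum {p}ᶜ n ∨ H1.PiNum ({p}ᶜ)ᶜ n := by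
  rcases h with ⟨m, rfl⟩ | h
  · exact Or.inr (H1.piNum_pow hp (by simp) m)
  · refine Or.inl fun q hq hqn e => ?_
    rw [Set.mem_singleton_iff.1 e] at hqn
    exact hp.one_lt.ne' (Nat.Coprime.eq_one_of_dvd h.symm hqn)

theorem exists_hall_compl_of_isPSolvable_aux {p : ℕ} [hp : Fact p.Prime] (n : ℕ) :
    ∀ (G : Type u) [Group G] [Finite G], Nat.card G = n → IsPSolvable p G →
      ∃ H : Subgroup G, H1.Hall {p}ᶜ H := by
  induction n using Nat.strong_induction_on with
  | _ n ih => ?_
  intro G _ _ hn hG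
  by_cases h : (⊥ : Subgroup G) = ⊤
  · refine ⟨⊥, fun q hq hd => ?_, fun q hq hd => ?_⟩
    · rw [card_bot] at hd
      exact absurd (Nat.dvd_one.1 hd) hq.one_lt.ne'
    · rw [h, index_top] at hd
      exact absurd (Nat.dvd_one.1 hd) hq.one_lt.ne'
  obtain ⟨M, hM, hlt, hc⟩ := H22.IsPSolvable.exists_normal_gt hG ⊥ h
  rw [relIndex_bot_left] at hc
  have hlt' : Nat.card (G ⧸ M) < n := by
    rw [← hn, ← M.index_mul_card, ← index_eq_card]
    have h1 : 1 < Nat.card M := (one_lt_card_iff_ne_bot M).2 hlt.ne'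
    have h2 : 0 < M.index := Nat.pos_of_ne_zero index_ne_zero_of_finite
    nlinarith
  obtain ⟨H, hH⟩ := ih _ hlt' (G ⧸ M) rfl (H22.IsPSolvable.quotient hG M)
  obtain ⟨K, hK, -⟩ := H1.Hall.exists_of_quotient M (piNum_or_of_ppowOrCoprime hp.out hc) H hH
  exact ⟨K, hK⟩

variable {G : Type*} [Group G] [Finite G] {p : ℕ} [hp : Fact p.Prime]

theorem exists_hall_compl_of_isPSolvable (hG : IsPSolvable p G) :
    ∃ H : Subgroup G, H1.Hall {p}ᶜ H :=
  exists_hall_compl_of_isPSolvable_aux _ G rfl hG

theorem isComplement'_sylow_of_hall {H : Subgroup G} (hH : H1.Hall {p}ᶜ H) (P : Sylow p G) :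
    H.IsComplement' (P : Subgroup G) := by
  have h1 : ¬ p ∣ Nat.card H := fun h => hH.1 p hp.out h rfl
  obtain ⟨k, hk⟩ : ∃ k, H.index = p ^ k :=
    ⟨_, Nat.eq_prime_pow_of_unique_prime_dvd index_ne_zero_of_finite fun {q} hq hd => by
      simpa using hH.2 q hq hd⟩
  obtain ⟨l, hl⟩ := IsPGroup.iff_card.1 P.isPGroup'
  have hcop : (Nat.card H).Coprime (Nat.card P) := by
    rw [hl]; exact ((Nat.Prime.coprime_iff_not_dvd hp.out).2 h1).symm.pow_right l
  refine isComplement'_of_coprime ?_ hcop
  have h2 : H.index ∣ Nat.card P := by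
    have h3 : H.index ∣ Nat.card P * (P : Subgroup G).index := by
      rw [card_mul_index]; exact H.index_dvd_card
    refine Nat.Coprime.dvd_of_dvd_mul_right ?_ h3
    rw [hk]
    exact ((Nat.Prime.coprime_iff_not_dvd hp.out).2 P.not_dvd_index).pow_left k
  have h4 : Nat.card P ∣ H.index := by
    have h3 : Nat.card P ∣ Nat.card H * H.index := by
      rw [card_mul_index]; exact card_subgroup_dvd_card _
    exact hcop.symm.dvd_of_dvd_mul_left h3
  rw [Nat.dvd_antisymm h4 h2, card_mul_index]

theorem exists_isComplement'_sylow_of_isPSolvable (hG : IsPSolvable p G) (P : Sylow p G) :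
    ∃ H : Subgroup G, H.IsComplement' (P : Subgroup G) :=
  (exists_hall_compl_of_isPSolvable hG).imp fun _ h => isComplement'_sylow_of_hall h P

theorem isCyclic_sylow_of_isCyclic {K : Type*} [Group K] [Finite K] (P : Sylow p G)
    (hP : IsCyclic P) (f : K →* G) (hf : Function.Injective f) (Q : Sylow p K) : IsCyclic Q := by
  obtain ⟨R, hR⟩ := (Q.isPGroup'.map f).exists_le_sylow
  have h1 : IsCyclic R := (Sylow.equiv P R).isCyclic.1 hP
  exact isCyclic_of_injective ((inclusion hR).comp (f.subgroupMap Q))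
    ((inclusion_injective hR).comp fun a b e => Subtype.ext (hf (congrArg Subtype.val e)))

theorem isCyclic_sylow_quotient {K : Type*} [Group K] [Finite K] (P : Sylow p G)
    (hP : IsCyclic P) (f : G →* K) (hf : Function.Surjective f) (Q : Sylow p K) : IsCyclic Q := by
  refine (Sylow.equiv (P.mapSurjective hf) Q).isCyclic.1 ?_
  exact isCyclic_of_surjective (f.subgroupMap P) (f.subgroupMap_surjective P)

/-- A group with cyclic Sylow `p`-subgroups and a nontrivial normal `p`-subgroup is
`p`-solvable. -/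
theorem isPSolvable_of_isCyclic_of_normal (P : Sylow p G) (hP : IsCyclic P) (L : Subgroup G)
    [L.Normal] (hL : IsPGroup p L) (hL1 : L ≠ ⊥) : IsPSolvable p G := by
  have hLP : L ≤ P := hL.le_sylow_of_normal P
  have hcomm : ∀ a ∈ (P : Subgroup G), ∀ b ∈ (P : Subgroup G), a * b = b * a := fun a ha b hb =>
    congrArg Subtype.val (hP.isMulCommutative.is_comm.comm ⟨a, ha⟩ ⟨b, hb⟩)
  have hPC : (P : Subgroup G) ≤ centralizer (L : Set G) := fun x hx y hy =>
    hcomm y (hLP hy) x hx
  refine H22.isPSolvable_of_normal_of_quotient (centralizer (L : Set G)) ?_ ?_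
  · let P' := P.subtype hPC
    have hP' : IsCyclic P' := isCyclic_sylow_of_isCyclic P hP (Subgroup.subtype _) Subtype.val_injective P'
    rcases S0082.result P' hP' with h | h
    · exact H22.isPSolvable_of_hasNormalPComplement h
    · exfalso
      obtain ⟨l, hl, hl1⟩ := (bot_or_exists_ne_one L).resolve_left hL1
      have h1 := H3.center_inf_commutator_inf_sylow_le P'
        (x := ⟨l, hPC (hLP hl)⟩) ⟨⟨?_, ?_⟩, hLP hl⟩
      · have h2 : ⁅(P' : Subgroup (centralizer (L : Set G))),
            (P' : Subgroup (centralizer (L : Set G)))⁆ = ⊥ := by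
          rw [commutator_eq_bot_iff_le_centralizer]
          intro a ha b hb
          exact Subtype.ext (hcomm _ hb _ ha)
        rw [h2] at h1
        exact hl1 (congrArg Subtype.val (mem_bot.1 h1))
      · exact mem_center_iff.2 fun g => Subtype.ext (g.2 l hl).symm
      · exact H3.le_commutator_of_pResidual_eq_top h P'.isPGroup' (hLP hl)
  · refine H22.isPSolvable_of_coprime ?_
    rw [← index_eq_card]
    exact ((Nat.Prime.coprime_iff_not_dvd hp.out).2 fun h =>
      P.not_dvd_index (h.trans (index_dvd_of_le hPC))).symm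

/-- A group with cyclic Sylow `p`-subgroups and a normal `p`-nilpotent subgroup of order
divisible by `p` is `p`-solvable. -/
theorem isPSolvable_of_isCyclic_of_hasNormalPComplement (P : Sylow p G) (hP : IsCyclic P)
    (L : Subgroup G) [L.Normal] (hL : HasNormalPComplement p L) (hpL : p ∣ Nat.card L) :
    IsPSolvable p G := by
  let R := (pResidual p L).map L.subtype
  have hR : (Nat.card R).Coprime p := by
    rw [card_map_of_injective Subtype.val_injective]
    exact H3.hasNormalPComplement_iff_coprime.1 hL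
  refine H22.isPSolvable_of_normal_of_quotient R (H22.isPSolvable_of_coprime hR) ?_
  let Q := P.mapSurjective (QuotientGroup.mk'_surjective R)
  refine isPSolvable_of_isCyclic_of_normal Q
    (isCyclic_sylow_quotient P hP _ (QuotientGroup.mk'_surjective R) Q)
    (L.map (QuotientGroup.mk' R)) ?_ ?_
  · rintro ⟨_, x, hx, rfl⟩
    obtain ⟨k, hk⟩ := H3.exists_pow_pow_coprime (p := p) x
    refine ⟨k, Subtype.ext ?_⟩
    change (QuotientGroup.mk' R x) ^ p ^ k = 1
    rw [← map_pow]
    exact (QuotientGroup.eq_one_iff _).2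
      (H3.mem_map_subtype_pResidual_of_coprime (L.pow_mem hx _) hk)
  · intro h
    rw [Subgroup.map_eq_bot_iff, QuotientGroup.ker_mk'] at h
    exact hp.out.one_lt.ne' (Nat.Coprime.eq_one_of_dvd hR.symm (hpL.trans (card_dvd_of_le h)))

end Cfsg.Agent.H6
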