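import Cfsg.Agent.H33.Gal
import Cfsg.Agent.H89.GCorr
import Cfsg.Agent.H88.Deg2
import Cfsg.Agent.H3.PGroup

/-! The principal block part of a character induced from a Sylow subgroup. -/

set_option autoImplicit false
open Cfsg Cfsg.Agent
open scoped ComplexConjugate

namespace Cfsg.Agent.H6

variable {G : Type*} [Group G] {p : ℕ}

theorem regSum_of_isPGroup [Fintype G] (hp : p.Prime) (hG : IsPGroup p G) (f : G → ℂ) :
    H33.regSum p f = f 1 := by
  classical
  have : Fact p.Prime := ⟨hp⟩
  rw [H33.regSum_def, Finset.sum_eq_single 1]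
  · rw [H33.rInd_of_regular (by simpa using hp.ne_one), one_mul]
  · intro g _ hg
    obtain ⟨k, hk⟩ := IsPGroup.iff_orderOf.1 hG g
    rcases k with _ | k
    · exact absurd (orderOf_eq_one_iff.1 hk) hg
    · rw [H33.rInd_of_singular (hk ▸ dvd_pow_self p (Nat.succ_ne_zero k)), zero_mul]
  · simp

/-- If `μ` is a character of `p'`-degree of a Sylow `p`-subgroup `P`, the principal block
part of `μ^G` has `p'`-degree. -/
theorem not_dvd_sum_principal [Finite G] [Fact p.Prime] {M : Ideal AlgInt} (hM : IsPModular p M)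
    (P : Sylow p G) {μ : ↥(P : Subgroup G) → ℂ} (hμ : IsCharacter ↥(P : Subgroup G) μ) (h1 : ¬ p ∣ charDegree μ)
    [DecidablePred (· ∈ principalBlock M G)] :
    ¬ p ∣ ∑ χ ∈ Finset.univ.filter (· ∈ principalBlock M G),
      H89.mlt (P : Subgroup G).subtype (χ : G → ℂ) μ * charDegree (χ : G → ℂ) := by
  classical
  have hp : p.Prime := Fact.out
  have := hM.2.1
  have := Fintype.ofFinite G
  intro hd
  have h2 := H33.sum_classInner_res_mul_regSum (p := p) (P : Subgroup G) hμ
  rw [regSum_of_isPGroup hp P.isPGroup', ← H88.charDegree_cast hμ] at h2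
  have h3 : (((P : Subgroup G).index * charDegree μ : ℕ) : ℂ) ∉ H32.locMax M := by
    rw [H32.natCast_mem_locMax_iff hM, hp.dvd_mul]
    rintro (h | h)
    · exact P.not_dvd_index h
    · exact h1 h
  apply h3
  rw [Nat.cast_mul, ← h2]
  set r : ℂ := (Nat.card {y : G // ¬ p ∣ orderOf y} : ℂ) with hr
  have h4 : ∑ χ : IrrCharacter G, classInner (fun h : (P : Subgroup G) => (χ : G → ℂ) h) μ *
      H33.regSum p (χ : G → ℂ) =
      ((∑ χ ∈ Finset.univ.filter (· ∈ principalBlock M G),
        H89.mlt (P : Subgroup G).subtype (χ : G → ℂ) μ * charDegree (χ : G → ℂ) : ℕ) : ℂ) * r +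
      ∑ χ ∈ Finset.univ.filter (· ∈ principalBlock M G),
        ((H89.mlt (P : Subgroup G).subtype (χ : G → ℂ) μ * charDegree (χ : G → ℂ) : ℕ) : ℂ) *
          (H33.regSum p (χ : G → ℂ) / (χ : G → ℂ) 1 - r) := by
    rw [Nat.cast_sum, Finset.sum_mul, ← Finset.sum_add_distrib, Finset.sum_filter]
    refine Finset.sum_congr rfl fun χ _ => ?_
    split_ifs with hχ
    · have h5 := H89.mlt_spec (P : Subgroup G).subtype (H5.isCharacter_of_isIrr χ.2) hμ
      have h6 := H5.degree_ne_zero χ.2
      rw [Nat.cast_mul, ← h5, H88.irr_charDegree_cast]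
      simp only [Subgroup.coe_subtype]
      field_simp
      ring
    · rw [H33.regSum_eq_zero hM hχ, mul_zero]
  rw [h4]
  refine add_mem (H32.mul_mem_locMax_right ((H32.natCast_mem_locMax_iff hM).2 hd)
    (natCast_mem _ _)) (sum_mem fun χ hχ => H32.mul_mem_locMax_left (natCast_mem _ _) ?_)
  exact H33.regSum_div_sub_mem (Finset.mem_filter.1 hχ).2

/-- A subgroup of index two is the kernel of a sign character. -/
theorem exists_sign_hom (K : Subgroup G) (hK : K.index = 2) :
    ∃ μ : G →* ℂˣ, ∀ g, (g ∈ K → μ g = 1) ∧ (g ∉ K → μ g = -1) := by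
  classical
  refine ⟨MonoidHom.mk' (fun g => if g ∈ K then 1 else -1) fun a b => ?_,
    fun g => ⟨fun h => if_pos h, fun h => if_neg h⟩⟩
  simp only [Subgroup.mul_mem_iff_of_index_two hK]
  by_cases ha : a ∈ K <;> by_cases hb : b ∈ K <;> simp [ha, hb]

end Cfsg.Agent.H6
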