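import Cfsg.Agent.H88.CD2
import Cfsg.Prelude.Def_DegreeGraph

set_option autoImplicit false

open Cfsg Cfsg.Agent Cfsg.Agent.H5 Cfsg.Agent.H88

namespace Cfsg.Agent.H6

variable {G : Type*} [Group G] [Finite G]

theorem mem_charDegrees {χ : G → ℂ} (h : IsIrrCharacter G χ) : charDegree χ ∈ charDegrees G :=
  ⟨⟨χ, h⟩, rfl⟩

/-- The basic dichotomy for the character degrees of a nonabelian solvable group
(Isaacs, Lemma 12.3 and Theorem 12.4). -/
theorem cd_dichotomy [Group.IsSolvable G] (hG : commutator G ≠ ⊥) :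
    ∃ p f : ℕ, p.Prime ∧ f ≠ 1 ∧ f ∈ charDegrees G ∧
      (((∃ e, f = p ^ e) ∧ ∀ d ∈ charDegrees G, ¬ p ∣ d → f * d ∈ charDegrees G) ∨
       (¬ p ∣ f ∧ ∀ d ∈ charDegrees G, ∃ e t, e ∣ f ∧ d = e * t ∧
          (p ∣ t ∨ f * t ∈ charDegrees G))) := by
  classical
  have := Fintype.ofFinite G
  obtain ⟨K, hK, hQ⟩ := exists_minNA_quotient hG
  have hs := QuotientGroup.mk'_surjective K
  obtain ⟨p, hp, hpow, hab, ⟨hP, -⟩ | ⟨hC, hd⟩⟩ := hQ.structure
  · obtain ⟨φ, hφ, hφ1⟩ := exists_irr_ne_one_of_commutator_ne_bot hQ.1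
    have := Fact.mk hp
    refine ⟨p, charDegree φ, hp, hφ1, ⟨⟨_, isIrrCharacter_inflate K hφ⟩, charDegree_inflate K φ⟩,
      Or.inl ⟨exists_charDegree_eq_pow hP hφ, ?_⟩⟩
    rintro _ ⟨χ, rfl⟩ hpχ
    have hχ := χ.2
    obtain ⟨k, hk⟩ := hP.exists_card_eq
    have h2 := H30.isIrr_mul_of_ker K (isCharacter_of_isIrr hχ)
      (isIrr_restrict_of_coprime K hχ (by
        rw [Subgroup.index_eq_card, hk]
        exact ((Nat.Prime.coprime_iff_not_dvd hp).mpr hpχ).symm.pow_right _))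
      (isIrrCharacter_inflate K hφ) fun n hn => by rw [(QuotientGroup.eq_one_iff n).mpr hn]; rfl
    have h3 := mem_charDegrees h2
    rwa [charDegree_mul (isCharacter_of_isIrr (isIrrCharacter_inflate K hφ))
      (isCharacter_of_isIrr hχ), charDegree_inflate] at h3
  · obtain ⟨φ, hφ, hφd⟩ := exists_irr_degree_eq_index_of_fpf (commutator (G ⧸ K)) hQ.1 hab hC
    refine ⟨p, (commutator (G ⧸ K)).index, hp, ?_,
      ⟨⟨_, isIrrCharacter_inflate K hφ⟩, (charDegree_inflate K φ).trans hφd⟩, Or.inr ⟨hd, ?_⟩⟩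
    · intro h1
      rw [Subgroup.index_eq_one] at h1
      apply hQ.1
      rw [commutator_eq_bot_iff_comm]
      exact fun a b => hab a (h1 ▸ Subgroup.mem_top a) b (h1 ▸ Subgroup.mem_top b)
    · rintro _ ⟨χ, rfl⟩
      let N := (commutator (G ⧸ K)).comap (QuotientGroup.mk' K)
      have := Fintype.ofFinite N
      obtain ⟨θ, hθ, hne⟩ := exists_irr_under' N χ.2
      obtain ⟨e, he, hdeg⟩ := exists_charDegree_eq_mul N χ.2 hθ hne
      rw [Subgroup.index_comap_of_surjective _ hs] at he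
      refine ⟨e, charDegree θ, he, hdeg, ?_⟩
      rcases dvd_or_exists_degree_of_frobenius_section (QuotientGroup.mk' K) hs _ hp hpow hab hQ.1
        hC hθ with h | ⟨ψ, hψ, h⟩
      · exact Or.inl h
      · exact Or.inr (h ▸ mem_charDegrees hψ)

theorem eq_one_of_mem_charDegrees (hG : commutator G = ⊥) {d : ℕ} (hd : d ∈ charDegrees G) :
    d = 1 := by
  obtain ⟨χ, rfl⟩ := hd
  exact charDegree_eq_one_of_comm (commutator_eq_bot_iff_comm.1 hG) χ.2

end Cfsg.Agent.H6
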