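import Cfsg.Agent.H6.Good
import Cfsg.Agent.H30.DegreeRatio
import Cfsg.Agent.H30.Extend
import Cfsg.Agent.H88.Deg2

/-! Fully ramified characters: reduction to an invariant linear character, the commutator
homomorphism of a coset, and the theorem of DeMeyer and Janusz. -/

set_option autoImplicit false
set_option linter.style.haveILetI false
set_option linter.unusedSectionVars false

namespace Cfsg.Agent.H6

open Cfsg Cfsg.Agent.H5
open scoped ComplexConjugate

universe u

variable {G A : Type*} [Group G] [Group A] {j : A →* G} {μ : A →* ℂˣ}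

theorem exists_lOver_of_norm_eq [Finite G] {β : G → ℂ} (hβ : IsIrrCharacter G β)
    (h : ∀ a, ‖β (j a)‖ = ‖β 1‖) : ∃ μ : A →* ℂˣ, LOver j μ β := by
  have hc := isCharacter_of_isIrr hβ
  have h0 := degree_ne_zero hβ
  choose w hw1 _ hw using fun a => exists_apply_mul_eq_of_norm_eq hc (h a)
  have hw0 : ∀ a, w a ≠ 0 := fun a e => by simpa [e] using hw1 a
  refine ⟨MonoidHom.mk' (fun a => Units.mk0 (w a) (hw0 a)) fun a b => Units.ext ?_, hw⟩
  apply mul_right_cancel₀ h0
  have h1 := hw (a * b) 1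
  rw [map_mul, mul_assoc, hw, hw] at h1
  simpa [mul_assoc] using h1.symm

theorem LOver.lInv {β : G → ℂ} (h : LOver j μ β) (hβ : IsIrrCharacter G β)
    (hn : j.range.Normal) : LInv j μ := by
  intro g a
  obtain ⟨a', ha'⟩ := hn.conj_mem _ ⟨a, rfl⟩ g
  refine ⟨a', ha', Units.ext (mul_right_cancel₀ (degree_ne_zero hβ) ?_)⟩
  rw [← h.apply_j, ← h.apply_j, ha', isClassFunction_of_isIrr hβ]

/-- A fully ramified triple can be replaced by one with a linear character. -/
theorem exists_linear_cover {H : Type u} [Group H] [Finite H] (Z : Subgroup H) [hZ : Z.Normal]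
    {χ : H → ℂ} (hχ : IsIrrCharacter H χ) {θ : Z → ℂ} (hθ : IsIrrCharacter Z θ) {e : ℕ}
    (he : e ^ 2 = Z.index) (h : ∀ z : Z, χ z = e * θ z) :
    ∃ (Γ : Type u) (_ : Group Γ) (_ : Finite Γ) (π : Γ →* H) (μ : Z.comap π →* ℂˣ) (β : Γ → ℂ),
      Function.Surjective π ∧ IsIrrCharacter Γ β ∧ LOver (Z.comap π).subtype μ β ∧
      LInv (Z.comap π).subtype μ ∧
      Nat.card (Z.comap π) * charDegree β ^ 2 = Nat.card Γ := by
  letI := Fintype.ofFinite Z
  have he0 : (e : ℂ) ≠ 0 := by
    intro h0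
    have : e = 0 := by exact_mod_cast h0
    rw [this] at he
    exact Subgroup.index_ne_zero_of_finite (H := Z) (by simpa using he.symm)
  have hinv : ∀ (g : H) (n : Z), θ ⟨g * n * g⁻¹, hZ.conj_mem (n : H) n.2 g⟩ = θ n := by
    intro g n
    apply mul_left_cancel₀ he0
    rw [← h, ← h]
    exact isClassFunction_of_isIrr hχ _ _
  obtain ⟨Γ, _, _, ⟨C⟩⟩ := H30.exists_cover Z hθ hinv
  have hne : classInner (fun n : Z => χ n) θ ≠ 0 := by
    have : (fun n : Z => χ n) = (e : ℂ) • θ := funext h
    rw [this, classInner_smul_left, classInner_irr_self hθ, mul_one]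
    exact he0
  obtain ⟨β, hβ, h1, h2⟩ := C.exists_factor hθ hχ hne
  have hθ1 : C.θ 1 = θ 1 := by rw [← C.θ_ν, map_one]
  have hβ1 : β 1 = e := by
    apply mul_right_cancel₀ (degree_ne_zero hθ)
    have := h2 1
    rw [map_one, hθ1] at this
    rw [← this, ← h 1]; rfl
  have hle : Z.comap C.π ≤ charCenter (isCharacter_of_isIrr hβ) := by
    rw [C.comap_eq_sup]
    refine sup_le (fun z hz => ?_) ?_
    · exact (mem_charCenter _).2 (norm_apply_of_mem_center hβ (C.ker_le hz))
    · rintro _ ⟨n, rfl⟩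
      exact (mem_charCenter _).2 (by rw [h1])
  obtain ⟨μ, hμ⟩ := exists_lOver_of_norm_eq (j := (Z.comap C.π).subtype) hβ
    fun a => (mem_charCenter _).1 (hle a.2)
  refine ⟨Γ, inferInstance, inferInstance, C.π, μ, β, C.π_surj, hβ, hμ,
    hμ.lInv hβ (by rw [Subgroup.range_subtype]; infer_instance), ?_⟩
  rw [H88.charDegree_eq_of_eq hβ1, he, ← Subgroup.index_comap_of_surjective _ C.π_surj,
    Subgroup.card_mul_index]

/-! ### Passing to subgroups -/

section sub

variable {S : Type*} [Group S] {f : S →* G} {i : A →* S}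

theorem LInv.of_comp (h : LInv j μ) (hf : Function.Injective f) (hi : ∀ a, f (i a) = j a) :
    LInv i μ := fun s a => by
  obtain ⟨a', h1, h2⟩ := h (f s) a
  exact ⟨a', hf (by simp [hi, h1]), h2⟩

theorem LOver.comp {χ : G → ℂ} (h : LOver j μ χ) (hi : ∀ a, f (i a) = j a) :
    LOver i μ (fun s => χ (f s)) := fun a s => by
  simp only [map_mul, hi, h a]

theorem LGood.of_map {s : S} (h : LGood j μ (f s)) (hi : ∀ a, f (i a) = j a) : LGood i μ s :=
  fun x a e => h (f x) a (by simpa [hi] using congrArg f e)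

theorem injective_of_comp (hj : Function.Injective j) (hi : ∀ a, f (i a) = j a) :
    Function.Injective i := fun a b e => hj (by rw [← hi, ← hi, e])

/-- An irreducible constituent of a character over `μ` lies over `μ`. -/
theorem LOver.of_constituent [Fintype G] (hinv : LInv j μ) (hj : Function.Injective j)
    {χ ψ : G → ℂ} (h : LOver j μ χ) (hψ : IsIrrCharacter G ψ) (hne : classInner χ ψ ≠ 0) :
    LOver j μ ψ := by
  classical
  haveI : Finite A := Finite.of_injective j hj
  letI := Fintype.ofFinite A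
  by_contra hn
  apply hne
  have h1 : ∀ g, ∑ a, conj (μ a : ℂ) * ψ (j a * g) = 0 := fun g => by
    rw [sum_conj_mul_irr_eq_ite hinv hj hψ, if_neg hn]
  have h2 : ∀ a, ∑ g, χ g * conj (ψ g) = ∑ g, χ g * conj (conj (μ a : ℂ) * ψ (j a * g)) := by
    intro a
    rw [← Equiv.sum_comp (Equiv.mulLeft (j a))]
    refine Finset.sum_congr rfl fun g _ => ?_
    simp only [Equiv.coe_mulLeft, h a, map_mul, RingHomCompTriple.comp_apply,
      RingHom.id_apply]
    ring
  have h3 : (Nat.card A : ℂ) * ∑ g, χ g * conj (ψ g) = 0 := by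
    rw [Nat.card_eq_fintype_card, ← Finset.card_univ, ← nsmul_eq_mul, ← Finset.sum_const,
      Finset.sum_congr rfl fun a _ => h2 a, Finset.sum_comm]
    refine Finset.sum_eq_zero fun g _ => ?_
    rw [← Finset.mul_sum, ← map_sum, h1, map_zero, mul_zero]
  rw [classInner, (mul_eq_zero.1 h3).resolve_left natCard_ne_zero, mul_zero]

end sub

/-- Multiplicity computation for a character vanishing off the range of `j`. -/
theorem LOver.card_mul_classInner_of_vanish [Fintype G] (hj : Function.Injective j)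
    {φ ψ : G → ℂ} (h : LOver j μ φ) (h' : LOver j μ ψ) (hv : ∀ g, g ∉ j.range → φ g = 0) :
    (Nat.card G : ℂ) * classInner φ ψ = Nat.card A * (φ 1 * conj (ψ 1)) := by
  haveI : Finite A := Finite.of_injective j hj
  letI := Fintype.ofFinite A
  rw [classInner, ← mul_assoc, mul_inv_cancel₀ natCard_ne_zero, one_mul,
    ← Fintype.sum_of_injective j hj (fun a => φ (j a) * conj (ψ (j a))) _
    (fun g hg => by rw [hv g hg, zero_mul]) (fun _ => rfl)]
  have h2 : ∀ a, φ (j a) * conj (ψ (j a)) = φ 1 * conj (ψ 1) := fun a => by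
    rw [h.apply_j, h'.apply_j, map_mul, mul_mul_mul_comm, mul_comm (μ a : ℂ), conj_mul_self_hom,
      one_mul]
  simp only [h2, Finset.sum_const, Finset.card_univ, nsmul_eq_mul, Nat.card_eq_fintype_card]

theorem LOver.card_dvd_of_vanish [Finite G] (hj : Function.Injective j)
    {φ ψ : G → ℂ} (hφ : IsCharacter G φ) (hψ : IsCharacter G ψ) (h : LOver j μ φ)
    (h' : LOver j μ ψ) (hv : ∀ g, g ∉ j.range → φ g = 0) :
    Nat.card G ∣ Nat.card A * (charDegree φ * charDegree ψ) := by
  letI := Fintype.ofFinite G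
  obtain ⟨k, hk⟩ := exists_nat_classInner hφ hψ
  have h1 := h.card_mul_classInner_of_vanish hj h' hv
  rw [hk, conj_degree hψ, ← H88.charDegree_cast hφ, ← H88.charDegree_cast hψ] at h1
  exact ⟨k, by exact_mod_cast h1.symm⟩

/-- DeMeyer–Janusz: full ramification passes to Hall subgroups (over the range of `j`). -/
theorem not_lGood_of_hall [Finite G] (hinv : LInv j μ) (hj : Function.Injective j) {χ : G → ℂ}
    (hχ : IsIrrCharacter G χ) (h : LOver j μ χ)
    (hd : Nat.card A * charDegree χ ^ 2 = Nat.card G) {S : Type*} [Group S] {f : S →* G}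
    {i : A →* S} (hf : Function.Injective f) (hi : ∀ a, f (i a) = j a) {n m : ℕ}
    (hn : Nat.card S = Nat.card A * n) (hm : Nat.card G = Nat.card S * m) (hc : n.Coprime m)
    {s : S} (hs : s ∉ i.range) : ¬ LGood i μ s := by
  haveI : Finite A := Finite.of_injective j hj
  haveI : Finite S := Finite.of_injective f hf
  have hi' := injective_of_comp hj hi
  have hinv' := hinv.of_comp hf hi
  obtain ⟨ψ, h1, h2⟩ := exists_lOver hinv' hi'
  refine not_lGood_of_fullyRamified hinv' hi' h1 h2 ?_ hs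
  have h3 := (h.comp hi).card_dvd_of_vanish hi'
    (isCharacter_comp (isCharacter_of_isIrr hχ) f) (isCharacter_of_isIrr h1) h2 (fun g hg =>
      h.vanish_of_fullyRamified hj hχ hd.ge (by
        rintro ⟨a, ha⟩
        exact hg ⟨a, hf (by rw [hi, ha])⟩))
  rw [H88.charDegree_comp, hn] at h3
  have hA : 0 < Nat.card A := Nat.card_pos
  have h4 : n ∣ charDegree χ * charDegree ψ := Nat.dvd_of_mul_dvd_mul_left hA h3
  have h5 : charDegree χ ^ 2 = n * m := by
    apply Nat.eq_of_mul_eq_mul_left hA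
    rw [hd, hm, hn, mul_assoc]
  have hn0 : 0 < n := Nat.pos_of_ne_zero fun e => by
    rw [e, mul_zero] at hn
    exact Nat.card_pos.ne' hn
  have h6 : n * n ∣ n * (m * charDegree ψ ^ 2) := by
    have := mul_dvd_mul h4 h4
    rwa [mul_mul_mul_comm, ← sq (charDegree χ), ← sq (charDegree ψ), h5, mul_assoc] at this
  have h7 := hc.dvd_of_dvd_mul_left (Nat.dvd_of_mul_dvd_mul_left hn0 h6)
  rw [hn]
  exact Nat.mul_le_mul_left _ (Nat.le_of_dvd (pow_pos (H88.charDegree_pos h1) 2) h7)

/-- If `μ` is fully ramified both in `G` and in a normal subgroup with cyclic quotient, the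
subgroup is everything. -/
theorem eq_top_of_not_lGood_of_isCyclic [Finite G] (hinv : LInv j μ) (hj : Function.Injective j)
    (D : Subgroup G) [hD : D.Normal] (hc : IsCyclic (G ⧸ D)) (i : A →* D)
    (hi : ∀ a, (i a : G) = j a) (h : ∀ g, g ∉ j.range → ¬ LGood j μ g)
    (h' : ∀ g, g ∉ i.range → ¬ LGood i μ g) : D = ⊤ := by
  haveI : Finite A := Finite.of_injective j hj
  letI := Fintype.ofFinite A
  have hi' := injective_of_comp (f := D.subtype) hj hi
  have hinv' := hinv.of_comp (f := D.subtype) Subtype.val_injective hi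
  obtain ⟨τ, h1, h2, -, h3⟩ := exists_fullyRamified_of_not_lGood hinv' hi' h'
  have hτ : ∀ g : G, conjChar D g τ = τ := fun g => by
    refine h2.eq_of_fullyRamified hinv' hi' h1 h3.ge (isIrr_conjChar D h1 g) fun a x => ?_
    obtain ⟨a', e1, e2⟩ := hinv g a
    rw [conjChar_apply, conjChar_apply, ← e2, ← h2]
    congr 1
    apply Subtype.ext
    simp only [Subgroup.coe_mul, hi, e1]
    group
  obtain ⟨η, h4, h5⟩ := H30.exists_extension_of_isCyclic hc h1
    (fun g n => congrFun (hτ g) n)
  have h6 : LOver j μ η := by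
    rw [lOver_iff hinv hj h4]
    have : (fun a => η (j a)) = fun a => τ (i a) := funext fun a => by rw [← hi, h5]
    rw [this, ← lOver_iff hinv' hi' h1]
    exact h2
  have h7 := h6.card_eq_of_vanish hj h4 fun g hg =>
    h6.apply_eq_zero (isClassFunction_of_isIrr h4) (h g hg)
  have h8 : charDegree η = charDegree τ := H88.charDegree_congr (h5 1)
  rw [h8, h3] at h7
  exact Subgroup.eq_top_of_card_eq _ h7

/-- All irreducible characters of a normal subgroup over `μ` have the same degree when `μ` is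
fully ramified in `G`. -/
theorem exists_card_eq_mul_degree_sq [Finite G] (hinv : LInv j μ) (hj : Function.Injective j)
    {χ : G → ℂ} (hχ : IsIrrCharacter G χ) (h : LOver j μ χ)
    (hd : Nat.card A * charDegree χ ^ 2 = Nat.card G) (K : Subgroup G) [K.Normal] (i : A →* K)
    (hi : ∀ a, (i a : G) = j a) {ζ : K → ℂ} (hζ : IsIrrCharacter K ζ) (hζ' : LOver i μ ζ) :
    ∃ t, Nat.card K = Nat.card A * (t * charDegree ζ ^ 2) := by
  classical
  haveI : Finite A := Finite.of_injective j hj
  letI := Fintype.ofFinite A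
  letI := Fintype.ofFinite G
  letI := Fintype.ofFinite K
  have hi' := injective_of_comp (f := K.subtype) hj hi
  have hinv' := hinv.of_comp (f := K.subtype) Subtype.val_injective hi
  have key : ∀ ξ : K → ℂ, IsIrrCharacter K ξ → LOver i μ ξ →
      classInner (fun x : K => χ x) ξ ≠ 0 := by
    intro ξ h1 h2
    obtain ⟨ψ, h3, h4⟩ := H88.exists_irr_over K h1
    have h5 : LOver j μ ψ := by
      rw [lOver_iff hinv hj h3]
      have := H88.classInner_ne_zero_comm.1 h4
      have h6 := (lOver_iff hinv' hi' h1).1 h2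
      have h7 := isCharacter_sub_of_constituent
        (isCharacter_restrict (isCharacter_of_isIrr h3) K) h1 h4
      have h8 : (fun a => ψ (j a)) = (fun a => ((fun x : K => ψ x) - ξ) (i a)) +
          fun a => ξ (i a) := funext fun a => by simp [hi]
      obtain ⟨k, hk⟩ := exists_nat_classInner (isCharacter_comp h7 i) (isCharacter_monoidHom μ)
      obtain ⟨l, hl⟩ := exists_nat_classInner
        (isCharacter_comp (isCharacter_of_isIrr h1) i) (isCharacter_monoidHom μ)
      rw [h8, classInner_add_left, hk, hl]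
      rw [hl] at h6
      have : l ≠ 0 := by exact_mod_cast h6
      exact_mod_cast (by omega : k + l ≠ 0)
    rwa [h.eq_of_fullyRamified hinv hj hχ hd.ge h3 h5] at h4
  refine ⟨(Finset.univ.filter fun ξ : IrrCharacter K => LOver i μ ξ).card, ?_⟩
  rw [← card_mul_sum_lOver_degree_sq hinv' hi', Finset.sum_congr rfl
    (g := fun _ => charDegree ζ ^ 2), Finset.sum_const, smul_eq_mul]
  intro ξ hξ
  obtain ⟨g, hg⟩ := exists_conjChar_eq_of_constituent K hχ hζ ξ.2 (key ζ hζ hζ')
    (key ξ ξ.2 (Finset.mem_filter.1 hξ).2)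
  rw [← hg, H88.charDegree_congr (conjChar_apply_one K g ζ)]

/-! ### The commutator homomorphism of a coset -/

variable (j) in
/-- The centraliser of `x` modulo the range of `j`. -/
def cosetCent (hn : j.range.Normal) (x : G) : Subgroup G where
  carrier := {y | ∃ a, y * x * y⁻¹ = j a * x}
  one_mem' := ⟨1, by simp⟩
  mul_mem' := by
    rintro y z ⟨a, ha⟩ ⟨b, hb⟩
    obtain ⟨c, hc⟩ := hn.conj_mem _ ⟨b, rfl⟩ y
    refine ⟨c * a, ?_⟩
    rw [map_mul, hc, mul_assoc _ (j a), ← ha]
    calc _ = y * (z * x * z⁻¹) * y⁻¹ := by group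
      _ = _ := by rw [hb]; group
  inv_mem' := by
    rintro y ⟨a, ha⟩
    obtain ⟨c, hc⟩ := hn.conj_mem _ ⟨a⁻¹, rfl⟩ y⁻¹
    refine ⟨c, ?_⟩
    rw [hc, map_inv]
    calc _ = y⁻¹ * (j a)⁻¹ * (j a * x) * y := by group
      _ = _ := by rw [← ha]; group

theorem mem_cosetCent {hn : j.range.Normal} {x y : G} :
    y ∈ cosetCent j hn x ↔ ∃ a, y * x * y⁻¹ = j a * x := Iff.rfl

theorem exists_commHom (hinv : LInv j μ) (hj : Function.Injective j) (x : G) :
    ∃ ν : cosetCent j hinv.normal x →* ℂˣ,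
      ∀ (y : cosetCent j hinv.normal x) (a : A), y * x * (y : G)⁻¹ = j a * x → ν y = μ a := by
  choose c hc using fun y : cosetCent j hinv.normal x => y.2
  have huniq : ∀ (y : cosetCent j hinv.normal x) (a : A), y * x * (y : G)⁻¹ = j a * x →
      c y = a := fun y a h => hj (mul_right_cancel ((hc y).symm.trans h))
  refine ⟨MonoidHom.mk' (fun y => μ (c y)) fun y z => ?_, fun y a h => congrArg μ (huniq y a h)⟩
  obtain ⟨b, h1, h2⟩ := hinv y (c z)
  rw [huniq (y * z) (b * c y), map_mul, h2, mul_comm]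
  rw [map_mul, h1, mul_assoc _ (j (c y)), ← hc]
  calc _ = (y : G) * (z * x * (z : G)⁻¹) * (y : G)⁻¹ := by simp only [Subgroup.coe_mul]; group
    _ = _ := by rw [hc]; group

theorem pow_eq_one_of_conj_eq (hinv : LInv j μ) (hj : Function.Injective j) {x y : G} {a : A}
    (h : y * x * y⁻¹ = j a * x) {n : ℕ} (hn : x ^ n ∈ j.range) : μ a ^ n = 1 := by
  have h1 : ∀ k : ℕ, ∃ b, y * x ^ k * y⁻¹ = j b * x ^ k ∧ μ b = μ a ^ k := by
    intro k
    induction k with
    | zero => exact ⟨1, by simp, by simp⟩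
    | succ k ih =>
      obtain ⟨b, e1, e2⟩ := ih
      obtain ⟨c, e3, e4⟩ := hinv (x ^ k) a
      refine ⟨b * c, ?_, by rw [map_mul, e2, e4, pow_succ]⟩
      calc _ = (y * x ^ k * y⁻¹) * (y * x * y⁻¹) := by rw [pow_succ]; group
        _ = _ := by rw [e1, h, map_mul, e3, pow_succ]; group
  obtain ⟨b, e1, e2⟩ := h1 n
  obtain ⟨c, hc⟩ := hn
  rw [← e2]
  rw [← hc] at e1
  exact lGood_j hinv hj c y b e1

end Cfsg.Agent.H6
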