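import Cfsg.Agent.H6.IndRep
import Mathlib.GroupTheory.RegularWreathProduct
import Mathlib.GroupTheory.Solvable
import Mathlib.GroupTheory.SpecificGroups.Cyclic

/-! Functoriality of the regular wreath product, the Kaloujnine–Krasner embedding, and induction
over normal subgroups of prime index in solvable groups. -/

set_option autoImplicit false
set_option linter.style.haveILetI false
set_option linter.unusedSectionVars false

namespace Cfsg.Agent.H6

universe u

section wreath

variable {D D' Q : Type*} [Group D] [Group D'] [Group Q]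

/-- The map of wreath products induced by a homomorphism of the base factor. -/
def wmap (Q : Type*) [Group Q] (f : D →* D') : D ≀ᵣ Q →* D' ≀ᵣ Q where
  toFun w := ⟨fun x => f (w.left x), w.right⟩
  map_one' := by ext <;> simp
  map_mul' a b := by ext <;> simp

theorem wmap_left (f : D →* D') (w : D ≀ᵣ Q) (x : Q) : (wmap Q f w).left x = f (w.left x) := rfl

theorem wmap_right (f : D →* D') (w : D ≀ᵣ Q) : (wmap Q f w).right = w.right := rfl

theorem wmap_injective {f : D →* D'} (hf : Function.Injective f) :
    Function.Injective (wmap Q f) := fun _ _ e =>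
  RegularWreathProduct.ext (funext fun x => hf (congrFun (congrArg (·.left) e) x))
    (congrArg (·.right) e)

/-- The base group of a wreath product. -/
def wbase (D Q : Type*) [Group D] [Group Q] : (Q → D) →* D ≀ᵣ Q where
  toFun f := ⟨f, 1⟩
  map_one' := rfl
  map_mul' a b := by ext <;> simp

theorem wbase_left (f : Q → D) : (wbase D Q f).left = f := rfl

theorem wbase_right (f : Q → D) : (wbase D Q f).right = 1 := rfl

theorem wbase_injective : Function.Injective (wbase D Q) := fun _ _ e => congrArg (·.left) e

theorem wreath_conj_left (g w : D ≀ᵣ Q) (hw : w.right = 1) (x : Q) :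
    (g * w * g⁻¹).left x = g.left x * w.left (g.right⁻¹ * x) * (g.left x)⁻¹ := by
  simp [hw]

theorem wreath_conj_right (g w : D ≀ᵣ Q) (hw : w.right = 1) : (g * w * g⁻¹).right = 1 := by
  simp [hw]

end wreath

variable {G : Type*} [Group G]

/-- The Kaloujnine–Krasner embedding. -/
noncomputable def kkHom (N : Subgroup G) [N.Normal] : G →* N ≀ᵣ (G ⧸ N) where
  toFun g := ⟨cosetCocycle N g, (g : G ⧸ N)⟩
  map_one' := RegularWreathProduct.ext (funext fun a => cosetCocycle_one N a) rfl
  map_mul' g h := RegularWreathProduct.ext (funext fun a => by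
    refine (cosetCocycle_mul N g h a).trans ?_
    obtain ⟨x, rfl⟩ := QuotientGroup.mk_surjective a
    rfl) rfl

theorem kkHom_right (N : Subgroup G) [N.Normal] (g : G) : (kkHom N g).right = (g : G ⧸ N) := rfl

theorem kkHom_injective (N : Subgroup G) [N.Normal] : Function.Injective (kkHom N) := by
  rw [injective_iff_map_eq_one]
  intro g hg
  have h1 : (g : G ⧸ N) = 1 := congrArg (·.right) hg
  have h2 : cosetCocycle N g 1 = 1 := congrFun (congrArg (·.left) hg) 1
  have h3 := congrArg Subtype.val h2
  have h4 : g⁻¹ • (1 : G ⧸ N) = 1 := by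
    change ((g⁻¹ * 1 : G) : G ⧸ N) = 1
    simp [h1]
  rw [coe_cosetCocycle, h4] at h3
  simpa [mul_assoc, inv_mul_eq_iff_eq_mul] using h3

theorem exists_normal_index_prime [Finite G] [Nontrivial G] (hG : Group.IsSolvable G) :
    ∃ N : Subgroup G, N.Normal ∧ N.index.Prime := by
  have h1 : commutator G ≠ ⊤ := (Group.IsSolvable.commutator_lt_top_of_nontrivial G).ne
  obtain ⟨M, hM, hle⟩ := (eq_top_or_exists_le_coatom (commutator G)).resolve_left h1
  haveI hn : M.Normal := ⟨fun x hx g => by
    have : g * x * g⁻¹ * x⁻¹ ∈ M :=
      hle (Subgroup.commutator_mem_commutator (Subgroup.mem_top g) (Subgroup.mem_top x))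
    simpa using M.mul_mem this hx⟩
  refine ⟨M, hn, ?_⟩
  haveI : Nontrivial (G ⧸ M) := QuotientGroup.nontrivial_iff.2 hM.1
  haveI : IsSimpleGroup (G ⧸ M) := ⟨fun H _ => by
    rcases hM.le_iff.1 (QuotientGroup.le_comap_mk' M H) with h | h
    · right
      rw [← Subgroup.map_comap_eq_self_of_surjective (QuotientGroup.mk'_surjective M) H, h,
        Subgroup.map_top_of_surjective _ (QuotientGroup.mk'_surjective M)]
    · left
      rw [← Subgroup.map_comap_eq_self_of_surjective (QuotientGroup.mk'_surjective M) H, h,
        QuotientGroup.map_mk'_self]⟩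
  letI : CommGroup (G ⧸ M) := { (inferInstance : Group (G ⧸ M)) with
    mul_comm := fun a b => by
      obtain ⟨a, rfl⟩ := QuotientGroup.mk_surjective a
      obtain ⟨b, rfl⟩ := QuotientGroup.mk_surjective b
      rw [← QuotientGroup.mk_mul, ← QuotientGroup.mk_mul, QuotientGroup.eq]
      have := hle (Subgroup.commutator_mem_commutator (Subgroup.mem_top b⁻¹)
        (Subgroup.mem_top a⁻¹))
      simpa [commutatorElement_def, mul_assoc] using this }
  exact IsSimpleGroup.prime_card

theorem solvable_prime_index_induction {P : ∀ (G : Type u) [Group G] [Finite G], Prop}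
    (h0 : ∀ (G : Type u) [Group G] [Finite G], Subsingleton G → P G)
    (h1 : ∀ (G : Type u) [Group G] [Finite G] (N : Subgroup G) [N.Normal], N.index.Prime →
      P N → P G)
    (G : Type u) [Group G] [Finite G] (hG : Group.IsSolvable G) : P G := by
  induction hn : Nat.card G using Nat.strong_induction_on generalizing G with
  | _ n ih => ?_
  rcases subsingleton_or_nontrivial G with h | h
  · exact h0 G h
  obtain ⟨N, hN, hp⟩ := exists_normal_index_prime hG
  refine h1 G N hp (ih (Nat.card N) ?_ N inferInstance rfl)
  rw [← hn, ← N.card_mul_index]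
  exact lt_mul_of_one_lt_right Nat.card_pos hp.one_lt

end Cfsg.Agent.H6
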