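import Cfsg.Agent.H89.Real3
import Cfsg.Agent.H88.Deg2
import Cfsg.Agent.H3.PComplement
import Cfsg.Agent.H3.PGroup

/-! Characters of `p'`-degree: lying over, kernels. -/

set_option autoImplicit false
open Cfsg Cfsg.Agent Subgroup
open scoped ComplexConjugate

namespace Cfsg.Agent.H6

variable {G : Type*} [Group G] {p : ℕ}

theorem exists_hom_apply_ne_one [Finite G] {x : G} (hx : x ∉ _root_.commutator G) :
    ∃ lam : G →* ℂˣ, lam x ≠ 1 := by
  have h1 : Abelianization.of x ≠ 1 := fun h => hx (by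
    rw [← Abelianization.ker_of]; exact h)
  obtain ⟨φ, hφ⟩ := CommGroup.exists_apply_ne_one_of_hasEnoughRootsOfUnity (Abelianization G) ℂ h1
  exact ⟨φ.comp Abelianization.of, hφ⟩

/-- A character of `p'`-degree of a subgroup of `p'`-index lies under one of `p'`-degree. -/
theorem exists_over_not_dvd [Finite G] (hp : p.Prime) (H : Subgroup G) (hH : ¬ p ∣ H.index)
    (ψ : IrrCharacter H) (h : ¬ p ∣ charDegree (ψ : H → ℂ)) :
    ∃ χ : IrrCharacter G, H89.mlt H.subtype (χ : G → ℂ) (ψ : H → ℂ) ≠ 0 ∧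
      ¬ p ∣ charDegree (χ : G → ℂ) := by
  classical
  have := Fintype.ofFinite G
  have hc := H5.isCharacter_of_isIrr ψ.2
  obtain ⟨χ, hχ, h1, h2⟩ := H88.exists_constituent_not_dvd (isCharacter_indFun H hc) (n := p) (by
    rw [H88.charDegree_indFun H hc, hp.dvd_mul, not_or]; exact ⟨hH, h⟩)
  refine ⟨⟨χ, hχ⟩, (H89.mlt_ne_zero_iff _ _ _).2 ?_, h2⟩
  exact (H88.classInner_indFun_ne_zero_iff H _ (H5.isClassFunction_of_isIrr hχ)).1 h1

theorem apply_eq_of_mlt {C : Type*} [Group C] [Finite C] (j : C →* G) {χ : IrrCharacter G}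
    {ψ : IrrCharacter C} (h : H89.mlt j (χ : G → ℂ) (ψ : C → ℂ) ≠ 0) {x : C}
    (hx : (χ : G → ℂ) (j x) = (χ : G → ℂ) 1) : (ψ : C → ℂ) x = (ψ : C → ℂ) 1 := by
  have := Fintype.ofFinite C
  exact H5.apply_eq_degree_of_constituent (H5.isCharacter_comp (H5.isCharacter_of_isIrr χ.2) j)
    ψ.2 ((H89.mlt_ne_zero_iff _ _ _).1 h) (by simpa using hx)

theorem eq_trivIrr_of_forall [Finite G] {θ : IrrCharacter G}
    (h : ∀ g, (θ : G → ℂ) g = (θ : G → ℂ) 1) : θ = H88.trivIrr G :=
  H88.eq_trivIrr_iff.2 (H5.eq_one_of_forall_eq_degree θ.2 h)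

theorem apply_eq_of_mlt_triv [Finite G] (N : Subgroup G) [N.Normal] {χ : IrrCharacter G}
    (h : H89.mlt N.subtype (χ : G → ℂ) (H88.trivIrr N : N → ℂ) ≠ 0) {n : G} (hn : n ∈ N) :
    (χ : G → ℂ) n = (χ : G → ℂ) 1 := by
  classical
  have := Fintype.ofFinite G
  have h0 : classInner (fun n : N => (χ : G → ℂ) n) (H88.trivIrr N : N → ℂ) ≠ 0 :=
    (H89.mlt_ne_zero_iff N.subtype χ (H88.trivIrr N)).1 h
  have h1 := res_eq_smul_of_invariant N χ.2 (H88.trivIrr N).2 h0 (fun g => rfl)
  have h2 := congrFun h1 ⟨n, hn⟩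
  have h3 := congrFun h1 1
  exact h2.trans h3.symm

/-- The version for a homomorphism with normal range. -/
theorem apply_eq_of_mlt_triv' [Finite G] {C : Type*} [Group C] [Finite C] (j : C →* G)
    (hj : j.range.Normal) {χ : IrrCharacter G}
    (h : H89.mlt j (χ : G → ℂ) (H88.trivIrr C : C → ℂ) ≠ 0) (x : C) :
    (χ : G → ℂ) (j x) = (χ : G → ℂ) 1 := by
  classical
  obtain ⟨ξ, h1, h2⟩ := H89.exists_mid_of_mlt_comp j.range.subtype j.rangeRestrict (χ := χ)
    (β := H88.trivIrr C) h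
  rw [H89.mlt_of_bijective _ j.rangeRestrict_surjective] at h2
  split_ifs at h2 with h3
  · have h4 : ξ = H88.trivIrr _ := by
      apply Subtype.ext
      funext y
      obtain ⟨c, rfl⟩ := j.rangeRestrict_surjective y
      exact congrFun (congrArg Subtype.val h3) c
    rw [h4] at h1
    exact apply_eq_of_mlt_triv j.range h1 ⟨x, rfl⟩
  · exact absurd rfl h2

theorem card_irr_eq_one_iff [Finite G] : Nat.card (IrrCharacter G) = 1 ↔ Nat.card G = 1 := by
  constructor
  · intro h
    have := (Nat.card_eq_one_iff_unique.1 h).1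
    rw [← H88.sum_charDegree_sq, Finset.sum_eq_single (H88.trivIrr G), H88.charDegree_trivIrr,
      one_pow]
    · intro b _ hb; exact absurd (Subsingleton.elim _ _) hb
    · simp
  · intro h
    have := (Nat.card_eq_one_iff_unique.1 h).1
    rw [Nat.card_eq_one_iff_unique]
    refine ⟨⟨fun a b => ?_⟩, ⟨H88.trivIrr G⟩⟩
    rw [eq_trivIrr_of_forall (θ := a) fun g => by rw [Subsingleton.elim g 1],
      eq_trivIrr_of_forall (θ := b) fun g => by rw [Subsingleton.elim g 1]]

theorem sInv_trivIrr (S N : Subgroup G) : H89.SInv S N (H88.trivIrr N : N → ℂ) :=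
  fun _ _ _ _ _ => rfl

/-- Glauberman: the trivial character is the only invariant one iff there are no fixed points. -/
theorem forall_sInv_iff [Finite G] (S : Subgroup G) (hsolv : Group.IsSolvable S) (N : Subgroup G)
    (hS : S ≤ normalizer (N : Set G)) (hcop : (Nat.card N).Coprime (Nat.card S)) :
    (∀ θ : IrrCharacter N, H89.SInv S N θ → θ = H88.trivIrr N) ↔
      N ⊓ centralizer (S : Set G) = ⊥ := by
  rw [← Subgroup.card_eq_one, ← card_irr_eq_one_iff, ← H89.card_sInv_eq S hsolv N hS hcop,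
    Nat.card_eq_one_iff_unique]
  constructor
  · intro h
    exact ⟨⟨fun a b => Subtype.ext ((h _ a.2).trans (h _ b.2).symm)⟩, ⟨⟨_, sInv_trivIrr S N⟩⟩⟩
  · rintro ⟨h, -⟩ θ hθ
    exact congrArg Subtype.val (h.elim ⟨θ, hθ⟩ ⟨_, sInv_trivIrr S N⟩)

theorem coprime_of_inf_centralizer_eq_bot [Finite G] [Fact p.Prime] (P : Sylow p G)
    (N : Subgroup G) [N.Normal] (hN : N ⊓ centralizer ((P : Subgroup G) : Set G) = ⊥) :
    (Nat.card N).Coprime p := by
  apply H3.coprime_card_of_normal_of_inf_sylow_eq_bot P N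
  by_contra h
  have h1 : N.subgroupOf (P : Subgroup G) ≠ ⊥ := by
    rwa [Ne, subgroupOf_eq_bot, disjoint_iff, inf_comm]
  obtain ⟨z, hz, hzc, ho⟩ := H3.exists_mem_center_orderOf_eq P.isPGroup' _ h1
  have h2 : (z : G) ∈ N ⊓ centralizer ((P : Subgroup G) : Set G) :=
    ⟨hz, fun g hg => congrArg Subtype.val (mem_center_iff.1 hzc ⟨g, hg⟩)⟩
  rw [hN, mem_bot] at h2
  have : z = 1 := Subtype.ext h2
  rw [this, orderOf_one] at ho
  exact (Fact.out : p.Prime).one_lt.ne ho

theorem coprime_card_of_isPGroup [Finite G] [Fact p.Prime] {P : Subgroup G} (hP : IsPGroup p P)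
    {n : ℕ} (h : n.Coprime p) : n.Coprime (Nat.card P) := by
  obtain ⟨k, hk⟩ := hP.exists_card_eq
  rw [hk]; exact h.pow_right k

/-- A normal subgroup without `P`-fixed points lies in the kernel of every character of
`p'`-degree. -/
theorem apply_eq_of_inf_centralizer_eq_bot [Finite G] [Fact p.Prime] (P : Sylow p G)
    (N : Subgroup G) [N.Normal] (hN : N ⊓ centralizer ((P : Subgroup G) : Set G) = ⊥)
    {χ : IrrCharacter G} (h : ¬ p ∣ charDegree (χ : G → ℂ)) {n : G} (hn : n ∈ N) :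
    (χ : G → ℂ) n = (χ : G → ℂ) 1 := by
  have hPN : (P : Subgroup G) ≤ normalizer (N : Set G) := by
    rw [normalizer_eq_top]; exact le_top
  obtain ⟨θ, h1, h2, -⟩ := H89.exists_sInv_under_of_not_dvd P.isPGroup' hPN h
  have := P.isPGroup'.isNilpotent
  rw [(forall_sInv_iff _ inferInstance N hPN (coprime_card_of_isPGroup P.isPGroup'
    (coprime_of_inf_centralizer_eq_bot P N hN))).2 hN θ h2] at h1
  exact apply_eq_of_mlt_triv N h1 hn

/-- A character of `p'`-degree with a normal subgroup of `p`-power index in its kernel is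
linear. -/
theorem charDegree_eq_one_of_ker [Finite G] [Fact p.Prime] (K : Subgroup G) [K.Normal]
    (hK : IsPGroup p (G ⧸ K)) {χ : G → ℂ} (hχ : IsIrrCharacter G χ) (h : ¬ p ∣ charDegree χ)
    (hker : ∀ g ∈ K, χ g = χ 1) : charDegree χ = 1 := by
  obtain ⟨φ, hφ, h2⟩ := H5.exists_isIrr_quotient K hχ hker
  obtain ⟨i, hi⟩ := H88.exists_charDegree_eq_pow hK hφ
  rw [h2, H88.charDegree_inflate, hi] at h ⊢
  rcases i with _ | i
  · exact pow_zero p
  · exact absurd (dvd_pow_self p (Nat.succ_ne_zero i)) h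

/-- A `P`-invariant character of a normal `p'`-subgroup lies under a character of
`p'`-degree. -/
theorem exists_over_of_sInv [Finite G] [hp : Fact p.Prime] (P : Sylow p G) (M : Subgroup G)
    [hM : M.Normal] (hc : (Nat.card M).Coprime p) (θ : IrrCharacter M)
    (hθ : H89.SInv (P : Subgroup G) M θ) :
    ∃ χ : IrrCharacter G, H89.mlt M.subtype (χ : G → ℂ) (θ : M → ℂ) ≠ 0 ∧
      ¬ p ∣ charDegree (χ : G → ℂ) := by
  set H : Subgroup G := M ⊔ (P : Subgroup G) with hH
  have hMH : M ≤ H := le_sup_left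
  have hr : (inclusion hMH).range = M.subgroupOf H := inclusion_range hMH
  have hn : (inclusion hMH).range.Normal := by rw [hr]; infer_instance
  have htop : (inclusion hMH).range ⊔ (P : Subgroup G).subgroupOf H = ⊤ := by
    rw [hr, ← subgroupOf_sup le_sup_left le_sup_right, subgroupOf_self]
  have hidx : (inclusion hMH).range.index.Coprime (Nat.card M) := by
    rw [hr]
    change (M.relIndex (M ⊔ (P : Subgroup G))).Coprime _
    rw [relIndex_sup_left]
    exact (coprime_card_of_isPGroup P.isPGroup' hc).symm.coprime_dvd_left (index_dvd_card _)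
  obtain ⟨ψ, hψ, h1, -⟩ := H89.exists_canon_ext (inclusion hMH) (inclusion_injective hMH) hn hidx
    θ.2 (H89.inv_of_inv_gen _ (inclusion_injective hMH) hn htop (H5.isClassFunction_of_isIrr θ.2)
      fun s hs g g' h => hθ s hs g g' (congrArg Subtype.val h))
  have hd : charDegree ψ = charDegree (θ : M → ℂ) := H88.charDegree_congr (by rw [← h1, map_one])
  obtain ⟨χ, h2, h3⟩ := exists_over_not_dvd hp.out H
    (fun h => P.not_dvd_index (h.trans (index_dvd_of_le le_sup_right))) ⟨ψ, hψ⟩ (by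
      change ¬ p ∣ charDegree ψ
      rw [hd]
      intro h
      exact (hp.out.coprime_iff_not_dvd.1 hc.symm) (h.trans (H32.charDegree_dvd_card θ)))
  refine ⟨χ, ?_, h3⟩
  have h4 : H89.mlt (inclusion hMH) ((⟨ψ, hψ⟩ : IrrCharacter H) : H → ℂ) (θ : M → ℂ) ≠ 0 := by
    rw [H89.mlt_eq_one_of_res _ h1]; exact one_ne_zero
  exact H89.mlt_comp_ne_zero H.subtype (inclusion hMH) h2 h4

end Cfsg.Agent.H6
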