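import Cfsg.Agent.H6.Monomial
import Cfsg.Agent.H6.Wreath
import Cfsg.Agent.H30.Gallagher
import Cfsg.Agent.H88.Deg2

/-! Characters of finite direct products, and wreath products of `M`-groups with groups of prime
order. -/

set_option autoImplicit false
set_option linter.style.haveILetI false
set_option linter.unusedSectionVars false

namespace Cfsg.Agent.H6

open Cfsg Cfsg.Agent.H5
open scoped ComplexConjugate

section pi

variable {ι : Type*} [Fintype ι] {D : ι → Type*} [∀ i, Group (D i)]

/-- The outer product of functions on the factors of a direct product. -/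
noncomputable def piChar (φ : ∀ i, D i → ℂ) : (∀ i, D i) → ℂ := fun f => ∏ i, φ i (f i)

theorem piChar_apply (φ : ∀ i, D i → ℂ) (f : ∀ i, D i) : piChar φ f = ∏ i, φ i (f i) := rfl

theorem isCharacter_finset_prod {G κ : Type*} [Group G] (s : Finset κ) (f : κ → G → ℂ)
    (h : ∀ i ∈ s, IsCharacter G (f i)) : IsCharacter G (∏ i ∈ s, f i) :=
  Finset.prod_induction f (IsCharacter G) (fun _ _ => isCharacter_mul) isCharacter_one h

theorem isCharacter_piChar {φ : ∀ i, D i → ℂ} (h : ∀ i, IsCharacter (D i) (φ i)) :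
    IsCharacter (∀ i, D i) (piChar φ) := by
  have := isCharacter_finset_prod Finset.univ (fun i (f : ∀ i, D i) => φ i (f i))
    fun i _ => isCharacter_comp (h i) (Pi.evalMonoidHom D i)
  convert this using 1
  funext f
  simp [piChar]

theorem classInner_piChar [DecidableEq ι] [∀ i, Fintype (D i)] (φ ψ : ∀ i, D i → ℂ) :
    classInner (piChar φ) (piChar ψ) = ∏ i, classInner (φ i) (ψ i) := by
  simp only [classInner, piChar, Finset.prod_mul_distrib, Finset.prod_univ_sum,
    Fintype.piFinset_univ, map_prod, Nat.card_pi, Nat.cast_prod, Finset.prod_inv_distrib]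

variable [∀ i, Finite (D i)]

theorem isIrr_piChar {φ : ∀ i, D i → ℂ} (h : ∀ i, IsIrrCharacter (D i) (φ i)) :
    IsIrrCharacter (∀ i, D i) (piChar φ) := by
  classical
  letI := fun i => Fintype.ofFinite (D i)
  refine isIrr_of_classInner_self_eq_one (isCharacter_piChar fun i => isCharacter_of_isIrr (h i)) ?_
  rw [classInner_piChar]
  exact Finset.prod_eq_one fun i _ => classInner_irr_self (h i)

theorem piChar_injective {φ ψ : ∀ i, D i → ℂ} (h : ∀ i, IsIrrCharacter (D i) (φ i))
    (h' : ∀ i, IsIrrCharacter (D i) (ψ i)) (e : piChar φ = piChar ψ) : φ = ψ := by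
  classical
  letI := fun i => Fintype.ofFinite (D i)
  have h1 := classInner_irr_self (isIrr_piChar h)
  nth_rw 2 [e] at h1
  rw [classInner_piChar] at h1
  funext i
  refine eq_of_classInner_irr_ne_zero (h i) (h' i) fun h0 => ?_
  rw [Finset.prod_eq_zero (Finset.mem_univ i) h0] at h1
  exact zero_ne_one h1

theorem exists_eq_piChar {θ : (∀ i, D i) → ℂ} (hθ : IsIrrCharacter _ θ) :
    ∃ φ : ∀ i, D i → ℂ, (∀ i, IsIrrCharacter (D i) (φ i)) ∧ θ = piChar φ := by
  classical
  letI := fun i => Fintype.ofFinite (D i)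
  by_contra hcon
  push Not at hcon
  have hreg : (fun x : ∀ i, D i => if x = 1 then (Nat.card (∀ i, D i) : ℂ) else 0) =
      ∑ φ : ∀ i, IrrCharacter (D i), (∏ i, (φ i : D i → ℂ) 1) • piChar fun i => φ i := by
    funext x
    simp only [Finset.sum_apply, Pi.smul_apply, smul_eq_mul, piChar, ← Finset.prod_mul_distrib]
    rw [← Fintype.piFinset_univ, ← Finset.prod_univ_sum (fun _ => Finset.univ)
      (fun i (φ : IrrCharacter (D i)) => (φ : D i → ℂ) 1 * (φ : D i → ℂ) (x i))]
    simp only [sum_degree_mul_irr, Nat.card_pi, Nat.cast_prod]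
    split_ifs with h
    · simp [h]
    · obtain ⟨i, hi⟩ := Function.ne_iff.1 h
      exact (Finset.prod_eq_zero (Finset.mem_univ i) (if_neg hi)).symm
  have h1 : classInner (fun x : ∀ i, D i => if x = 1 then (Nat.card (∀ i, D i) : ℂ) else 0) θ
      = 0 := by
    rw [hreg, classInner_sum_left]
    refine Finset.sum_eq_zero fun φ _ => ?_
    rw [classInner_smul_left, classInner_irr_ne (isIrr_piChar fun i => (φ i).2) hθ
      (hcon _ fun i => (φ i).2).symm, mul_zero]
  have hc : (Nat.card (∀ i, D i) : ℂ) ≠ 0 := natCard_ne_zero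
  unfold classInner at h1
  simp only [ite_mul, zero_mul, Finset.sum_ite_eq', Finset.mem_univ, if_true] at h1
  rw [inv_mul_cancel_left₀ hc] at h1
  exact degree_ne_zero hθ (by simpa using h1)

theorem extendByZero_pi (U : ∀ i, Subgroup (D i)) (φ : ∀ i, U i → ℂ) (f : ∀ i, D i) :
    extendByZero (Subgroup.pi Set.univ U)
      (fun x => ∏ i, φ i ⟨x.1 i, x.2 i (Set.mem_univ i)⟩) f =
      ∏ i, extendByZero (U i) (φ i) (f i) := by
  by_cases h : f ∈ Subgroup.pi Set.univ U
  · rw [extendByZero_of_mem _ _ h]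
    exact Finset.prod_congr rfl fun i _ =>
      (extendByZero_of_mem _ _ (h i (Set.mem_univ i))).symm
  · rw [extendByZero_of_notMem _ _ h]
    simp only [Subgroup.mem_pi, Set.mem_univ, forall_true_left, not_forall] at h
    obtain ⟨i, hi⟩ := h
    exact (Finset.prod_eq_zero (Finset.mem_univ i) (extendByZero_of_notMem (U i) (φ i) hi)).symm

theorem card_subgroup_pi (U : ∀ i, Subgroup (D i)) :
    Nat.card (Subgroup.pi Set.univ U) = ∏ i, Nat.card (U i) := by
  rw [← Nat.card_pi]
  exact Nat.card_congr ⟨fun x i => ⟨x.1 i, x.2 i (Set.mem_univ i)⟩,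
    fun x => ⟨fun i => x i, fun i _ => (x i).2⟩, fun _ => rfl, fun _ => rfl⟩

theorem indFun_pi [DecidableEq ι] [∀ i, Fintype (D i)] (U : ∀ i, Subgroup (D i))
    (φ : ∀ i, U i → ℂ) :
    indFun (Subgroup.pi Set.univ U) (fun x => ∏ i, φ i ⟨x.1 i, x.2 i (Set.mem_univ i)⟩) =
      piChar fun i => indFun (U i) (φ i) := by
  funext f
  simp only [indFun_apply, extendByZero_pi, piChar, Finset.prod_mul_distrib,
    Finset.prod_univ_sum, Fintype.piFinset_univ, card_subgroup_pi, Nat.cast_prod,
    Finset.prod_inv_distrib, Pi.mul_apply, Pi.inv_apply]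

theorem isMonomialChar_piChar [DecidableEq ι] [∀ i, Fintype (D i)] {φ : ∀ i, D i → ℂ}
    (h : ∀ i, IsMonomialChar (φ i)) : IsMonomialChar (piChar φ) := by
  choose U lam hl using h
  refine ⟨Subgroup.pi Set.univ U, ∏ i, (lam i).comp
    (((Pi.evalMonoidHom D i).comp (Subgroup.subtype _)).codRestrict (U i)
      fun x => x.2 i (Set.mem_univ i)), ?_⟩
  rw [funext hl, ← indFun_pi]
  congr 1
  funext x
  simp only [MonoidHom.finsetProd_apply, Units.coe_prod]
  rfl

end pi

section wreath

variable {M Q : Type*} [Group M] [Group Q]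

theorem range_wbase : (wbase M Q).range = (RegularWreathProduct.rightHom : M ≀ᵣ Q →* Q).ker := by
  ext w
  exact ⟨by rintro ⟨f, rfl⟩; rfl, fun h => ⟨w.left, RegularWreathProduct.ext rfl h.symm⟩⟩

/-- The wreath product of a subgroup. -/
def wsub (U : Subgroup M) (Q : Type*) [Group Q] : Subgroup (M ≀ᵣ Q) where
  carrier := {w | ∀ x, w.left x ∈ U}
  one_mem' := fun _ => U.one_mem
  mul_mem' := fun ha hb x => U.mul_mem (ha x) (hb _)
  inv_mem' := fun ha _ => U.inv_mem (ha _)

theorem card_wsub [Finite Q] (U : Subgroup M) :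
    Nat.card (wsub U Q) = Nat.card U ^ Nat.card Q * Nat.card Q := by
  rw [← Nat.card_fun, ← Nat.card_prod]
  exact Nat.card_congr ⟨fun w => (fun x => ⟨w.1.left x, w.2 x⟩, w.1.right),
    fun a => ⟨⟨fun x => a.1 x, a.2⟩, fun x => (a.1 x).2⟩, fun _ => rfl, fun _ => rfl⟩

/-- The linear character of `U ≀ Q` attached to a linear character of `U`. -/
noncomputable def wlin [Fintype Q] {U : Subgroup M} (lam : U →* ℂˣ) : wsub U Q →* ℂˣ :=
  MonoidHom.mk' (fun w => ∏ x, lam ⟨w.1.left x, w.2 x⟩) fun a b => by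
    rw [← Equiv.prod_comp (Equiv.mulLeft a.1.right⁻¹) (fun x => lam ⟨b.1.left x, b.2 x⟩),
      ← Finset.prod_mul_distrib]
    exact Finset.prod_congr rfl fun x _ => by rw [← map_mul]; rfl

theorem extendByZero_wlin [Fintype Q] {U : Subgroup M} (lam : U →* ℂˣ) (w : M ≀ᵣ Q) :
    extendByZero (wsub U Q) (fun x => (wlin lam x : ℂ)) w =
      ∏ x, extendByZero U (fun u => (lam u : ℂ)) (w.left x) := by
  by_cases h : w ∈ wsub U Q
  · rw [extendByZero_of_mem _ _ h]
    refine (Units.coe_prod _ _).trans (Finset.prod_congr rfl fun i _ => ?_)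
    exact (extendByZero_of_mem _ (fun u => (lam u : ℂ)) (h i)).symm
  · rw [extendByZero_of_notMem _ _ h]
    obtain ⟨i, hi⟩ : ∃ i, w.left i ∉ U := not_forall.1 h
    exact (Finset.prod_eq_zero (Finset.mem_univ i) (extendByZero_of_notMem U _ hi)).symm

theorem indFun_wlin_wbase [Fintype Q] [Fintype M] [Fintype (M ≀ᵣ Q)] {U : Subgroup M}
    (lam : U →* ℂˣ) (b : Q → M) :
    indFun (wsub U Q) (fun x => (wlin lam x : ℂ)) (wbase M Q b) =
      ∏ x, indFun U (fun u => (lam u : ℂ)) (b x) := by
  classical
  rw [indFun_apply', ← (RegularWreathProduct.equivProd M Q).symm.sum_comp, Fintype.sum_prod_type,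
    Finset.sum_comm]
  have h1 : ∀ c : Q, ∑ f : Q → M, extendByZero (wsub U Q) (fun x => (wlin lam x : ℂ))
      ((RegularWreathProduct.equivProd M Q).symm (f, c) * wbase M Q b *
        ((RegularWreathProduct.equivProd M Q).symm (f, c))⁻¹) =
      (Nat.card U : ℂ) ^ Nat.card Q * ∏ x, indFun U (fun u => (lam u : ℂ)) (b x) := by
    intro c
    rw [← Equiv.prod_comp (Equiv.mulLeft c⁻¹) (fun x => indFun U (fun u => (lam u : ℂ)) (b x)),
      Nat.card_eq_fintype_card (α := Q), ← Finset.card_univ, ← Finset.prod_const,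
      ← Finset.prod_mul_distrib]
    simp only [indFun_apply', mul_inv_cancel_left₀ (card_ne_zero_complex U),
      Finset.prod_univ_sum, Fintype.piFinset_univ, extendByZero_wlin]
    refine Finset.sum_congr rfl fun f _ => Finset.prod_congr rfl fun x _ => ?_
    rw [wreath_conj_left _ _ rfl]
    rfl
  simp only [h1, Finset.sum_const, Finset.card_univ, nsmul_eq_mul, card_wsub,
    ← Nat.card_eq_fintype_card]
  have := card_ne_zero_complex U
  have := card_ne_zero_complex Q
  push_cast
  field_simp

/-- The wreath product of an `M`-group with a group of prime order is an `M`-group. -/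
theorem isMonomialChar_wreath [Fintype M] [Fintype (M ≀ᵣ Q)] (hQ : (Nat.card Q).Prime)
    (hM : ∀ ψ : M → ℂ, IsIrrCharacter M ψ → IsMonomialChar ψ) {χ : M ≀ᵣ Q → ℂ}
    (hχ : IsIrrCharacter _ χ) : IsMonomialChar χ := by
  classical
  haveI : Finite Q := Nat.finite_of_card_ne_zero hQ.ne_zero
  letI := Fintype.ofFinite Q
  let B := (wbase M Q).range
  haveI hB : B.Normal := by rw [show B = _ from range_wbase]; infer_instance
  letI := Fintype.ofFinite B
  have hBi : B.index = Nat.card Q := by
    rw [show B = _ from range_wbase, Subgroup.index_ker, MonoidHom.range_eq_top.2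
      (fun q => ⟨RegularWreathProduct.inl q, rfl⟩), Subgroup.card_top]
  let e : (Q → M) ≃* B := MonoidHom.ofInjective wbase_injective
  obtain ⟨θ, hθ, hne⟩ := H88.exists_irr_under' B hχ
  obtain ⟨ψ, hψ, hθψ⟩ := exists_eq_piChar (isIrrCharacter_comp_equiv hθ e)
  have hle := le_inertia B (isClassFunction_of_isIrr hθ)
  rcases (Nat.dvd_prime hQ).1 (hBi ▸ Subgroup.index_dvd_of_le hle) with h | h
  · have hinv : ∀ g, conjChar B g θ = θ := fun g =>
      (mem_inertia B).1 (Subgroup.index_eq_one.1 h ▸ Subgroup.mem_top g)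
    have hψc : ∀ x, ψ x = ψ 1 := by
      intro q
      have h1 : piChar (D := fun _ : Q => M) (fun x => ψ (q * x)) = piChar ψ := by
        funext b
        rw [← congrFun hθψ b, ← congrFun (hinv (RegularWreathProduct.inl q)) (e b), conjChar_apply]
        have h2 := congrFun hθψ (fun x => b (q⁻¹ * x))
        rw [piChar_apply, ← Equiv.prod_comp (Equiv.mulLeft q)] at h2
        simp only [Equiv.coe_mulLeft, inv_mul_cancel_left] at h2
        rw [piChar_apply, ← h2]
        congr 1
        refine Subtype.ext (RegularWreathProduct.ext (funext fun x => ?_) ?_)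
        · exact Eq.trans (by simp; rfl) (wreath_conj_left (RegularWreathProduct.inl q)
            (wbase M Q b) rfl x).symm
        · exact (wreath_conj_right (RegularWreathProduct.inl q) (wbase M Q b) rfl).symm
      simpa using congrFun (piChar_injective (fun x => hψ (q * x)) hψ h1) 1
    obtain ⟨U, lam, hl⟩ := hM _ (hψ 1)
    have hη := isCharacter_indFun (wsub U Q) (isCharacter_monoidHom (wlin lam))
    obtain ⟨β, h1, h2, h3⟩ := H30.exists_eq_mul_of_over B hθ hη (fun n => by
      obtain ⟨b, rfl⟩ := e.surjective n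
      rw [congrFun hθψ b, piChar_apply]
      simp only [hψc, hl]
      exact indFun_wlin_wbase lam b) hχ hne
    have h4 : charDegree β = 1 := by
      rw [← H88.commutator_le_charKer_iff h1]
      refine fun g hg => h2 g ?_
      haveI := Fact.mk hQ
      haveI : IsCyclic Q := isCyclic_of_prime_card rfl
      letI : CommGroup Q := IsCyclic.commGroup
      rw [show B = _ from range_wbase]
      exact Abelianization.commutator_subset_ker _ hg
    obtain ⟨ν, rfl⟩ := exists_monoidHom_of_degree_one (isCharacter_of_isIrr h1)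
      ((H88.charDegree_eq_one_iff (isCharacter_of_isIrr h1)).1 h4)
    refine ⟨wsub U Q, wlin lam * ν.comp (Subgroup.subtype _), ?_⟩
    rw [h3, mul_comm, ← indFun_mul_res _ _ (isClassFunction_of_isIrr h1)]
    rfl
  · have h1 : inertia B θ ≤ B := by
      have := Subgroup.relIndex_mul_index hle
      rw [h, hBi, mul_eq_right₀ hQ.ne_zero] at this
      exact Subgroup.relIndex_eq_one.1 this
    have h2 := isIrr_indFun_of_inertia_le B hθ h1
    have h3 := eq_of_classInner_irr_ne_zero h2 hχ
      ((H88.classInner_indFun_ne_zero_iff B θ (isClassFunction_of_isIrr hχ)).2 hne)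
    rw [← h3]
    refine IsMonomialChar.indFun B ?_
    have h4 := (isMonomialChar_piChar fun x => hM _ (hψ x)).comp_surjective
      e.symm.toMonoidHom e.symm.surjective
    rw [← hθψ] at h4
    simpa using h4

end wreath

end Cfsg.Agent.H6
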