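import Cfsg.Agent.H6.PPrimeDeg
import Cfsg.Agent.H89.Real4
import Cfsg.Agent.H22.PSolvable

/-! Real characters of odd degree of solvable groups and linear characters of a Sylow
`2`-subgroup. -/

set_option autoImplicit false
open Cfsg Cfsg.Agent Subgroup
open scoped ComplexConjugate

namespace Cfsg.Agent.H6

open H88 H89

universe u

variable {G : Type*} [Group G] {P : Type*} [Group P]

/-- A linear character as an irreducible character. -/
def linIrr (μ : P →* ℂˣ) : IrrCharacter P := ⟨fun x => (μ x : ℂ), H5.isIrrCharacter_monoidHom μ⟩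

theorem linIrr_apply (μ : P →* ℂˣ) (x : P) : (linIrr μ : P → ℂ) x = μ x := rfl

theorem conjIrr_linIrr [Finite P] (μ : P →* ℂˣ) : conjIrr (linIrr μ) = linIrr μ⁻¹ :=
  Subtype.ext (funext fun x => H5.conj_monoidHom μ x)

theorem charDegree_linIrr (μ : P →* ℂˣ) : charDegree (linIrr μ : P → ℂ) = 1 :=
  charDegree_monoidHom μ

theorem real_of_under_odd [Finite G] {N : Type*} [Group N] [Finite N] (ι : N →* G)
    (hι : Function.Injective ι) (hn : ι.range.Normal) {χ : IrrCharacter G} (hχ : conjIrr χ = χ)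
    (hodd : Odd (charDegree (χ : G → ℂ))) {θ : IrrCharacter N}
    (h : mlt ι (χ : G → ℂ) (θ : N → ℂ) ≠ 0) : conjIrr θ = θ := by
  rw [charDegree_eq_sum ι χ] at hodd
  obtain ⟨ξ, h1, h2⟩ := exists_fixed_of_odd_sum conjIrr conjIrr_conjIrr _ (fun ξ => by
    rw [charDegree_conjIrr, ← mlt_conjIrr ι χ ξ, hχ]) hodd
  have h3 : mlt ι (χ : G → ℂ) (ξ : N → ℂ) ≠ 0 := fun h0 => by
    rw [h0, zero_mul] at h2; exact absurd h2 (by decide)
  obtain ⟨g, a, -, h4⟩ := exists_conj_of_mlt ι hι hn h3 h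
  apply Subtype.ext
  funext n
  rw [conjIrr_apply, h4, ← conjIrr_apply, h1]

theorem eq_trivIrr_of_real_of_odd [Finite G] (hG : Odd (Nat.card G)) {θ : IrrCharacter G}
    (h : conjIrr θ = θ) : θ = trivIrr G := by
  refine eq_trivIrr_of_real (⊥ : Subgroup G).subtype
    (by rw [range_subtype]; infer_instance) (by rwa [range_subtype, index_bot]) h fun n => ?_
  rw [Subsingleton.elim n 1, map_one]

theorem odd_iff_not_dvd {n : ℕ} : Odd n ↔ ¬ 2 ∣ n := by rw [Nat.odd_iff]; omega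

theorem apply_eq_of_odd_normal [Finite G] {Q : Subgroup G} (hQ : IsPGroup 2 Q)
    (hi : Odd Q.index) (O : Subgroup G) [O.Normal] (hO : (Nat.card O).Coprime 2)
    {χ : IrrCharacter G} (hodd : Odd (charDegree (χ : G → ℂ)))
    (h : conjIrr χ = χ ∨ normalizer (Q : Set G) ≤ Q) {n : G} (hn : n ∈ O) :
    (χ : G → ℂ) n = (χ : G → ℂ) 1 := by
  have : Fact (Nat.Prime 2) := ⟨Nat.prime_two⟩
  rcases h with h | h
  · obtain ⟨θ, hθ⟩ := H89.exists_irr_under O.subtype χ
    have h1 := real_of_under_odd O.subtype (subtype_injective _)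
      (by rw [range_subtype]; infer_instance) h hodd hθ
    rw [eq_trivIrr_of_real_of_odd (Nat.coprime_two_right.1 hO) h1] at hθ
    exact apply_eq_of_mlt_triv O hθ hn
  · refine apply_eq_of_inf_centralizer_eq_bot (hQ.toSylow (odd_iff_not_dvd.1 hi)) O ?_
      (odd_iff_not_dvd.1 hodd) hn
    rw [eq_bot_iff, ← H22.inf_eq_bot_of_pgroup_coprime hQ hO, inf_comm Q]
    exact inf_le_inf_left _ ((centralizer_le_normalizer _).trans h)

theorem exists_under_compat [Finite G] [Finite P] {L : Type*} [Group L] [Finite L] (j : P →* G)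
    (ι : L →* G) (hι : Function.Injective ι) (hle : ι.range ≤ j.range) {χ : IrrCharacter G}
    {μ : P →* ℂˣ} (h : mlt j (χ : G → ℂ) (linIrr μ : P → ℂ) ≠ 0) :
    ∃ η : IrrCharacter L, mlt ι (χ : G → ℂ) (η : L → ℂ) ≠ 0 ∧
      ∀ l x, ι l = j x → (η : L → ℂ) l = μ x := by
  classical
  set P₀ := ι.range.comap j with hP₀
  set r : P₀ →* L := (MonoidHom.ofInjective hι).symm.toMonoidHom.comp
    ((j.comp P₀.subtype).codRestrict ι.range fun x => x.2) with hr
  have hιr : ∀ x : P₀, ι (r x) = j x := fun x => MonoidHom.apply_ofInjective_symm hι _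
  have hsurj : Function.Surjective r := by
    intro l
    obtain ⟨x, hx⟩ := hle ⟨l, rfl⟩
    exact ⟨⟨x, ⟨l, hx.symm⟩⟩, hι (by rw [hιr]; exact hx)⟩
  have h1 : mlt P₀.subtype (linIrr μ : P → ℂ) (linIrr (μ.comp P₀.subtype) : P₀ → ℂ) ≠ 0 := by
    rw [mlt_eq_one_of_res _ fun _ => rfl]; exact one_ne_zero
  have h2 := mlt_comp_ne_zero j P₀.subtype h h1
  have h3 : j.comp P₀.subtype = ι.comp r := MonoidHom.ext fun x => (hιr x).symm
  rw [h3] at h2
  obtain ⟨η, h4, h5⟩ := exists_mid_of_mlt_comp ι r h2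
  refine ⟨η, h4, fun l x hx => ?_⟩
  rw [mlt_of_bijective _ hsurj] at h5
  split_ifs at h5 with h6
  · have h7 := congrFun (congrArg Subtype.val h6) ⟨x, ⟨l, hx⟩⟩
    have h8 : r ⟨x, ⟨l, hx⟩⟩ = l := hι (by rw [hιr]; exact hx.symm)
    rw [← h8]; exact h7
  · exact absurd rfl h5

theorem mlt_of_compat [Finite G] [Finite P] {L : Type*} [Group L] [Finite L] (j : P →* G)
    (ι : L →* G) (hι : Function.Injective ι) (hle : ι.range ≤ j.range) {χ : IrrCharacter G}
    {μ : P →* ℂˣ} (h : mlt j (χ : G → ℂ) (linIrr μ : P → ℂ) ≠ 0) {η : IrrCharacter L}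
    (hη : ∀ l x, ι l = j x → (η : L → ℂ) l = μ x) : mlt ι (χ : G → ℂ) (η : L → ℂ) ≠ 0 := by
  obtain ⟨η', h1, h2⟩ := exists_under_compat j ι hι hle h
  have : η' = η := Subtype.ext (funext fun l => by
    obtain ⟨x, hx⟩ := hle ⟨l, rfl⟩
    exact (h2 l x hx.symm).trans (hη l x hx.symm).symm)
  rwa [← this]

theorem sInv_of_compat (j : P →* G) (L : Subgroup G) (hle : L ≤ j.range) {μ : P →* ℂˣ}
    {η : L → ℂ} (hη : ∀ (l : L) x, (l : G) = j x → η l = μ x) : SInv j.range L η := by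
  rintro _ ⟨y, rfl⟩ n n' h
  obtain ⟨x, hx⟩ := hle n.2
  rw [hη n x hx.symm, hη n' (y * x * y⁻¹) (by rw [h, ← hx]; simp), map_mul, map_mul, map_inv,
    mul_inv_cancel_comm]

theorem mem_inertia_iff' (L : Subgroup G) [hL : L.Normal] (η : L → ℂ) (g : G) :
    g ∈ inertia L η ↔ ∀ n n' : L, (n' : G) = g * n * g⁻¹ → η n' = η n := by
  rw [mem_inertia_iff]
  exact ⟨fun h n n' h1 => by rw [← h n]; congr 1; exact Subtype.ext h1, fun h n => h n _ rfl⟩

theorem le_inertia_of_sInv {S L : Subgroup G} [L.Normal] {η : L → ℂ} (h : SInv S L η) :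
    S ≤ inertia L η := fun s hs => (mem_inertia_iff' L η s).2 (h s hs)

/-- The basic trichotomy for an invariant linear character of `O_p(G)`. -/
theorem isPGroup_or_exists_ker [Finite G] {p : ℕ} [Fact p.Prime] (hG : IsPSolvable p G)
    (hO : pPrimeCore p G = ⊥) (L : Subgroup G) [L.Normal] (hL : L = pCore p G)
    (η : IrrCharacter L) (h1 : η.1 1 = 1) (hinv : inertia L η.1 = ⊤) :
    IsPGroup p G ∨ ∃ M : Subgroup G, M.Normal ∧ M ≠ ⊥ ∧ ∀ χ : IrrCharacter G,
      mlt L.subtype (χ : G → ℂ) η.1 ≠ 0 → ∀ m ∈ M, (χ : G → ℂ) m = (χ : G → ℂ) 1 := by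
  classical
  have hc := H5.isCharacter_of_isIrr η.2
  have hinv' : ∀ g (n n' : L), (n' : G) = g * n * g⁻¹ → η.1 n' = η.1 n := fun g =>
    (mem_inertia_iff' L η.1 g).1 (hinv ▸ mem_top g)
  set M : Subgroup G := (H5.charKer hc).map L.subtype with hM
  by_cases hM0 : M = ⊥
  · left
    apply H22.isPGroup_of_pCore_eq_top
    rw [eq_top_iff]
    refine le_trans (fun g _ => ?_) (H22.IsPSolvable.centralizer_pCore_le hG hO)
    intro l hl
    rw [← hL] at hl
    have h2 : g * l * g⁻¹ ∈ L := (inferInstance : L.Normal).conj_mem l hl g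
    have h3 : (⟨_, h2⟩ * ⟨l, hl⟩⁻¹ : L) ∈ H5.charKer hc := by
      rw [H5.mem_charKer, H5.map_mul_of_degree_one hc h1, hinv' g ⟨l, hl⟩ ⟨_, h2⟩ rfl,
        ← H5.map_mul_of_degree_one hc h1, mul_inv_cancel]
    have h4 : g * l * g⁻¹ * l⁻¹ ∈ M := ⟨_, h3, rfl⟩
    rw [hM0, mem_bot] at h4
    calc l * g = (g * l * g⁻¹ * l⁻¹)⁻¹ * (g * l) := by group
      _ = g * l := by rw [h4]; simp
  · right
    refine ⟨M, ⟨?_⟩, hM0, fun χ hχ => ?_⟩
    · rintro _ ⟨n, hn, rfl⟩ g
      refine ⟨⟨_, (inferInstance : L.Normal).conj_mem _ n.2 g⟩, ?_, rfl⟩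
      rw [SetLike.mem_coe, H5.mem_charKer, hinv' g n _ rfl]
      exact hn
    · rintro _ ⟨n, hn, rfl⟩
      have := Fintype.ofFinite G
      have h0 : classInner (fun n : L => (χ : G → ℂ) n) η.1 ≠ 0 :=
        (mlt_ne_zero_iff L.subtype χ η).1 hχ
      have h2 := res_eq_smul_of_invariant L χ.2 η.2 h0
        fun g => (mem_inertia L).1 (hinv ▸ mem_top g)
      have h3 := congrFun h2 n
      have h4 := congrFun h2 1
      simp only [Pi.smul_apply, smul_eq_mul] at h3 h4
      rw [(H5.mem_charKer hc).1 hn] at h3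
      exact h3.trans h4.symm

/-- Lifting normalisers of Sylow subgroups along a quotient map. -/
theorem exists_lift_normalizer [Finite G] {p : ℕ} [Fact p.Prime] {Q : Subgroup G}
    (hQ : IsPGroup p Q) (hi : ¬ p ∣ Q.index) (M : Subgroup G) [M.Normal] {g : G ⧸ M}
    (hg : g ∈ normalizer ((Q.map (QuotientGroup.mk' M) : Subgroup (G ⧸ M)) : Set (G ⧸ M))) :
    ∃ g' ∈ normalizer (Q : Set G), QuotientGroup.mk' M g' = g := by
  obtain ⟨g, rfl⟩ := QuotientGroup.mk'_surjective M g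
  obtain ⟨t, ht, h1⟩ := exists_mem_normalizer_mul (hQ.toSylow hi) (Q ⊔ M) g le_sup_left
    fun x hx => by
      have h2 := (mem_normalizer_iff.1 hg _).1 ⟨x, hx, rfl⟩
      rw [← map_inv, ← map_mul, ← map_mul] at h2
      have h3 : g * x * g⁻¹ ∈ (Q.map (QuotientGroup.mk' M)).comap (QuotientGroup.mk' M) := h2
      rwa [comap_map_eq, QuotientGroup.ker_mk'] at h3
  have ht' : t ∈ ((Q ⊔ M : Subgroup G) : Set G) := ht
  rw [mul_normal] at ht'
  obtain ⟨u, hu, m, hm, rfl⟩ := ht'
  refine ⟨u⁻¹ * (u * m * g), mul_mem (inv_mem (le_normalizer hu)) h1, ?_⟩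
  have h0 : QuotientGroup.mk' M m = 1 := (QuotientGroup.eq_one_iff m).2 hm
  rw [show u⁻¹ * (u * m * g) = m * g by group, map_mul, h0, one_mul]

theorem normalizer_map_le [Finite G] {p : ℕ} [Fact p.Prime] {Q : Subgroup G}
    (hQ : IsPGroup p Q) (hi : ¬ p ∣ Q.index) (M : Subgroup G) [M.Normal]
    (h : normalizer (Q : Set G) ≤ Q) :
    normalizer ((Q.map (QuotientGroup.mk' M) : Subgroup (G ⧸ M)) : Set (G ⧸ M)) ≤
      Q.map (QuotientGroup.mk' M) := fun g hg => by
  obtain ⟨g', h1, rfl⟩ := exists_lift_normalizer hQ hi M hg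
  exact ⟨g', h h1, rfl⟩

theorem odd_index_comp_mk (j : P →* G) (M : Subgroup G) [M.Normal] (h : Odd j.range.index) :
    Odd ((QuotientGroup.mk' M).comp j).range.index := by
  rw [MonoidHom.range_comp]
  exact h.of_dvd_nat (index_map_dvd _ (QuotientGroup.mk'_surjective M))

theorem range_codRestrict (j : P →* G) (I : Subgroup G) (h : ∀ x, j x ∈ I) :
    (j.codRestrict I h).range = j.range.subgroupOf I := by
  ext y
  constructor
  · rintro ⟨x, rfl⟩; exact ⟨x, rfl⟩
  · rintro ⟨x, hx⟩; exact ⟨x, Subtype.ext hx⟩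

theorem odd_index_codRestrict (j : P →* G) (I : Subgroup G) (h : ∀ x, j x ∈ I)
    (hi : Odd j.range.index) : Odd (j.codRestrict I h).range.index := by
  rw [range_codRestrict]
  exact hi.of_dvd_nat (relIndex_dvd_index_of_le (by rintro _ ⟨x, rfl⟩; exact h x))

theorem coe_mem_normalizer {Q I : Subgroup G} (hQ : Q ≤ I) {t : I}
    (ht : t ∈ normalizer ((Q.subgroupOf I : Subgroup I) : Set I)) :
    (t : G) ∈ normalizer (Q : Set G) := by
  rw [← subgroupOf_normalizer_eq hQ] at ht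
  exact ht

theorem surjective_of_isPGroup [Finite G] (hG : IsPGroup 2 G) (j : P →* G)
    (hi : Odd j.range.index) : Function.Surjective j := by
  have : Fact (Nat.Prime 2) := ⟨Nat.prime_two⟩
  rw [← MonoidHom.range_eq_top, ← index_eq_one]
  obtain ⟨k, hk⟩ := hG.exists_card_eq
  exact ((Nat.coprime_two_right.2 hi).pow_right k).eq_one_of_dvd (hk ▸ index_dvd_card _)

theorem eq_of_mlt_surjective [Finite P] (j : P →* G) (hj : Function.Surjective j)
    {χ : IrrCharacter G} {β : IrrCharacter P} (h : mlt j (χ : G → ℂ) (β : P → ℂ) ≠ 0) (x : P) :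
    (χ : G → ℂ) (j x) = (β : P → ℂ) x := by
  classical
  rw [mlt_of_bijective _ hj] at h
  split_ifs at h with h1
  · exact congrFun (congrArg Subtype.val h1) x
  · exact absurd rfl h

theorem card_quotient_lt [Finite G] (M : Subgroup G) [M.Normal] (hM : M ≠ ⊥) :
    Nat.card (G ⧸ M) < Nat.card G := by
  rw [← M.card_mul_index]
  have h1 : 1 < Nat.card M := (one_lt_card_iff_ne_bot M).2 hM
  have h2 : 0 < M.index := Nat.pos_of_ne_zero index_ne_zero_of_finite
  change M.index < _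
  nlinarith

theorem card_lt_of_ne_top [Finite G] {I : Subgroup G} (hI : I ≠ ⊤) : Nat.card I < Nat.card G :=
  lt_of_le_of_ne (card_le_card_group I) fun h => hI (eq_top_of_card_eq I h)

/-- The Clifford step. -/
theorem clifford_step [Finite G] [Finite P] (j : P →* G) (L : Subgroup G) [L.Normal]
    (hle : L ≤ j.range) {μ : P →* ℂˣ} (η : IrrCharacter L)
    (hη : ∀ (l : L) x, (l : G) = j x → η.1 l = μ x) (hj : ∀ x, j x ∈ inertia L η.1)
    {χ : IrrCharacter G} (hodd : Odd (charDegree (χ : G → ℂ)))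
    (h : mlt j (χ : G → ℂ) (linIrr μ : P → ℂ) ≠ 0) :
    ∃ ψ : IrrCharacter (inertia L η.1), mlt (inertia L η.1).subtype (χ : G → ℂ) ψ.1 ≠ 0 ∧
      mlt (j.codRestrict _ hj) ψ.1 (linIrr μ : P → ℂ) ≠ 0 ∧
      mlt (inclusion (le_inertia L (H5.isClassFunction_of_isIrr η.2))) ψ.1 η.1 ≠ 0 ∧
      Odd (charDegree ψ.1) ∧ (conjIrr χ = χ → conjIrr ψ = ψ) := by
  have hLI := le_inertia L (H5.isClassFunction_of_isIrr η.2)
  have D := cliffData_top η (mem_inertia_iff' L η.1) hLI
  obtain ⟨ψ, h1, h2⟩ := exists_mid_of_mlt_comp (inertia L η.1).subtype (j.codRestrict _ hj)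
    (χ := χ) (β := linIrr μ) h
  have h3 : mlt (inclusion hLI) ψ.1 η.1 ≠ 0 := by
    refine mlt_of_compat (j.codRestrict _ hj) (inclusion hLI) (inclusion_injective _) ?_ h2
      fun l x hx => hη l x (congrArg Subtype.val hx)
    rintro _ ⟨l, rfl⟩
    obtain ⟨x, hx⟩ := hle l.2
    exact ⟨x, Subtype.ext hx⟩
  refine ⟨ψ, h1, h2, h3, ?_, fun hχ => ?_⟩
  · rw [D.charDegree_eq h3 h1] at hodd
    exact Nat.Odd.of_mul_right hodd
  · have h5 := mlt_comp_ne_zero (inertia L η.1).subtype (inclusion hLI) (χ := χ) (ξ := ψ)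
      (β := η) h1 h3
    have h4 : conjIrr η = η := real_of_under_odd L.subtype (subtype_injective _)
      (by rw [range_subtype]; infer_instance) hχ hodd h5
    refine D.unique_down ?_ h3 (χ := χ) ?_ h1
    · have := mlt_conjIrr (inclusion hLI) ψ η
      rw [h4] at this
      rwa [this]
    · have := mlt_conjIrr (inertia L η.1).subtype χ ψ
      rw [hχ] at this
      rwa [this]

theorem eq_of_over_aux [Finite P] (hP : IsPGroup 2 P) (μ : P →* ℂˣ) (n : ℕ) :
    ∀ (G : Type u) [Group G] [Finite G], Nat.card G = n → Group.IsSolvable G →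
      ∀ j : P →* G, Odd j.range.index → ∀ χ χ' : IrrCharacter G,
        Odd (charDegree (χ : G → ℂ)) → Odd (charDegree (χ' : G → ℂ)) →
        mlt j (χ : G → ℂ) (linIrr μ : P → ℂ) ≠ 0 → mlt j (χ' : G → ℂ) (linIrr μ : P → ℂ) ≠ 0 →
        ((conjIrr χ = χ ∧ conjIrr χ' = χ') ∨ normalizer (j.range : Set G) ≤ j.range) →
        χ = χ' := by
  have : Fact (Nat.Prime 2) := ⟨Nat.prime_two⟩
  induction n using Nat.strong_induction_on with
  | _ n ih =>
  intro G _ _ hn hs j hi χ χ' ho ho' h h' hr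
  have hQ : IsPGroup 2 j.range := hP.of_surjective _ j.rangeRestrict_surjective
  have quot : ∀ M : Subgroup G, M.Normal → M ≠ ⊥ → (∀ m ∈ M, (χ : G → ℂ) m = (χ : G → ℂ) 1) →
      (∀ m ∈ M, (χ' : G → ℂ) m = (χ' : G → ℂ) 1) → χ = χ' := by
    intro M _ hM h1 h2
    obtain ⟨φ, hφ, h3⟩ := H5.exists_isIrr_quotient M χ.2 h1
    obtain ⟨φ', hφ', h4⟩ := H5.exists_isIrr_quotient M χ'.2 h2
    have h5 := ih _ (hn ▸ card_quotient_lt M hM) (G ⧸ M) rfl inferInstance
      ((QuotientGroup.mk' M).comp j) (odd_index_comp_mk j M hi) ⟨φ, hφ⟩ ⟨φ', hφ'⟩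
      (by rwa [h3, charDegree_inflate] at ho) (by rwa [h4, charDegree_inflate] at ho')
      (by rw [h3] at h; exact h) (by rw [h4] at h'; exact h') (by
        rcases hr with ⟨h5, h6⟩ | h5
        · left
          constructor
          · apply Subtype.ext
            funext y
            obtain ⟨g, rfl⟩ := QuotientGroup.mk_surjective y
            have := congrFun (congrArg Subtype.val h5) g
            rw [conjIrr_apply, h3] at this
            exact this
          · apply Subtype.ext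
            funext y
            obtain ⟨g, rfl⟩ := QuotientGroup.mk_surjective y
            have := congrFun (congrArg Subtype.val h6) g
            rw [conjIrr_apply, h4] at this
            exact this
        · right
          rw [MonoidHom.range_comp]
          exact normalizer_map_le hQ (odd_iff_not_dvd.1 hi) M h5)
    apply Subtype.ext
    have h6 : φ = φ' := congrArg Subtype.val h5
    exact h3.trans (h6 ▸ h4.symm)
  by_cases hO : pPrimeCore 2 G = ⊥
  swap
  · exact quot _ inferInstance hO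
      (fun m hm => apply_eq_of_odd_normal hQ hi _ H22.coprime_card_pPrimeCore ho
        (hr.imp_left And.left) hm)
      (fun m hm => apply_eq_of_odd_normal hQ hi _ H22.coprime_card_pPrimeCore ho'
        (hr.imp_left And.right) hm)
  have hle : pCore 2 G ≤ j.range := H22.pCore_le_sylow (hQ.toSylow (odd_iff_not_dvd.1 hi))
  obtain ⟨η, h1, hη⟩ := exists_under_compat j (pCore 2 G).subtype (subtype_injective _)
    (by rwa [range_subtype]) h
  have h1' := mlt_of_compat j (pCore 2 G).subtype (subtype_injective _)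
    (by rwa [range_subtype]) h' hη
  have hj : ∀ x, j x ∈ inertia (pCore 2 G) η.1 := fun x =>
    le_inertia_of_sInv (sInv_of_compat j _ hle hη) ⟨x, rfl⟩
  by_cases hI : inertia (pCore 2 G) η.1 = ⊤
  · rcases isPGroup_or_exists_ker H22.isPSolvable_of_isSolvable hO _ rfl η
      (by rw [hη 1 1 (by simp)]; simp) hI with h2 | ⟨M, hM, hM0, h2⟩
    · have hj := surjective_of_isPGroup h2 j hi
      apply Subtype.ext
      funext g
      obtain ⟨x, rfl⟩ := hj g
      exact (eq_of_mlt_surjective j hj h x).trans (eq_of_mlt_surjective j hj h' x).symm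
    · exact quot M hM hM0 (h2 χ h1) (h2 χ' h1')
  obtain ⟨ψ, a1, a2, a3, a4, a5⟩ := clifford_step j _ hle η hη hj ho h
  obtain ⟨ψ', b1, b2, b3, b4, b5⟩ := clifford_step j _ hle η hη hj ho' h'
  have h2 := ih _ (hn ▸ card_lt_of_ne_top hI) _ rfl inferInstance (j.codRestrict _ hj)
    (odd_index_codRestrict j _ hj hi) ψ ψ' a4 b4 a2 b2 (by
      rcases hr with ⟨h5, h6⟩ | h5
      · exact Or.inl ⟨a5 h5, b5 h6⟩
      · right
        rw [range_codRestrict]
        exact fun t ht => h5 (coe_mem_normalizer (by rintro _ ⟨x, rfl⟩; exact hj x) ht))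
  subst h2
  exact (cliffData_top η (mem_inertia_iff' _ η.1) _).unique_up a3 a1 b1

/-- Two odd degree characters over the same linear character of a Sylow `2`-subgroup agree if
they are real or the Sylow subgroup is self-normalising. -/
theorem eq_of_over [Finite G] [Finite P] [hs : Group.IsSolvable G] (hP : IsPGroup 2 P)
    (j : P →* G) (hi : Odd j.range.index) {μ : P →* ℂˣ} {χ χ' : IrrCharacter G}
    (ho : Odd (charDegree (χ : G → ℂ))) (ho' : Odd (charDegree (χ' : G → ℂ)))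
    (h : mlt j (χ : G → ℂ) (linIrr μ : P → ℂ) ≠ 0)
    (h' : mlt j (χ' : G → ℂ) (linIrr μ : P → ℂ) ≠ 0)
    (hr : (conjIrr χ = χ ∧ conjIrr χ' = χ') ∨ normalizer (j.range : Set G) ≤ j.range) :
    χ = χ' :=
  eq_of_over_aux hP μ _ G rfl hs j hi χ χ' ho ho' h h' hr

theorem mlt_conj_comp [Finite P] (j : P →* G) (g : G) (χ : IrrCharacter G) (β : P → ℂ) :
    mlt ((MulAut.conj g).toMonoidHom.comp j) (χ : G → ℂ) β = mlt j (χ : G → ℂ) β := by
  unfold mlt
  congr 3
  funext c
  exact H5.isClassFunction_of_isIrr χ.2 _ _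

theorem exists_conj_aux [Finite P] (hP : IsPGroup 2 P) (μ μ' : P →* ℂˣ) (n : ℕ) :
    ∀ (G : Type u) [Group G] [Finite G], Nat.card G = n → Group.IsSolvable G →
      ∀ j j' : P →* G, Odd j.range.index → j'.range = j.range → ∀ χ : IrrCharacter G,
        Odd (charDegree (χ : G → ℂ)) → conjIrr χ = χ →
        mlt j (χ : G → ℂ) (linIrr μ : P → ℂ) ≠ 0 → mlt j' (χ : G → ℂ) (linIrr μ' : P → ℂ) ≠ 0 →
        ∃ g ∈ normalizer (j.range : Set G), ∀ x y, j' y = g * j x * g⁻¹ → μ' y = μ x := by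
  have : Fact (Nat.Prime 2) := ⟨Nat.prime_two⟩
  induction n using Nat.strong_induction_on with
  | _ n ih =>
  intro G _ _ hn hs j j' hi hjj χ ho hr h h'
  have hQ : IsPGroup 2 j.range := hP.of_surjective _ j.rangeRestrict_surjective
  have quot : ∀ M : Subgroup G, M.Normal → M ≠ ⊥ → (∀ m ∈ M, (χ : G → ℂ) m = (χ : G → ℂ) 1) →
      ∃ g ∈ normalizer (j.range : Set G), ∀ x y, j' y = g * j x * g⁻¹ → μ' y = μ x := by
    intro M _ hM h1
    obtain ⟨φ, hφ, h3⟩ := H5.exists_isIrr_quotient M χ.2 h1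
    obtain ⟨g, hg, h5⟩ := ih _ (hn ▸ card_quotient_lt M hM) (G ⧸ M) rfl inferInstance
      ((QuotientGroup.mk' M).comp j) ((QuotientGroup.mk' M).comp j') (odd_index_comp_mk j M hi)
      (by rw [MonoidHom.range_comp, MonoidHom.range_comp, hjj]) ⟨φ, hφ⟩
      (by rwa [h3, charDegree_inflate] at ho) (by
        apply Subtype.ext
        funext y
        obtain ⟨g, rfl⟩ := QuotientGroup.mk_surjective y
        have := congrFun (congrArg Subtype.val hr) g
        rw [conjIrr_apply, h3] at this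
        exact this)
      (by rw [h3] at h; exact h) (by rw [h3] at h'; exact h')
    rw [MonoidHom.range_comp] at hg
    obtain ⟨g', h6, rfl⟩ := exists_lift_normalizer hQ (odd_iff_not_dvd.1 hi) M hg
    refine ⟨g', h6, fun x y hxy => h5 x y ?_⟩
    rw [MonoidHom.comp_apply, hxy, map_mul, map_mul, map_inv]; rfl
  by_cases hO : pPrimeCore 2 G = ⊥
  swap
  · exact quot _ inferInstance hO
      (fun m hm => apply_eq_of_odd_normal hQ hi _ H22.coprime_card_pPrimeCore ho (Or.inl hr) hm)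
  have hle : pCore 2 G ≤ j.range := H22.pCore_le_sylow (hQ.toSylow (odd_iff_not_dvd.1 hi))
  obtain ⟨η, h1, hη⟩ := exists_under_compat j (pCore 2 G).subtype (subtype_injective _)
    (by rwa [range_subtype]) h
  have hj : ∀ x, j x ∈ inertia (pCore 2 G) η.1 := fun x =>
    le_inertia_of_sInv (sInv_of_compat j _ hle hη) ⟨x, rfl⟩
  by_cases hI : inertia (pCore 2 G) η.1 = ⊤
  · rcases isPGroup_or_exists_ker H22.isPSolvable_of_isSolvable hO _ rfl η
      (by rw [hη 1 1 (by simp)]; simp) hI with h2 | ⟨M, hM, hM0, h2⟩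
    · have hj := surjective_of_isPGroup h2 j hi
      have hj' := surjective_of_isPGroup h2 j' (hjj ▸ hi)
      refine ⟨1, one_mem _, fun x y hxy => Units.ext ?_⟩
      rw [← linIrr_apply, ← linIrr_apply, ← eq_of_mlt_surjective j hj h x,
        ← eq_of_mlt_surjective j' hj' h' y, hxy]
      simp
    · exact quot M hM hM0 (h2 χ h1)
  obtain ⟨η', h1', hη'⟩ := exists_under_compat j' (pCore 2 G).subtype (subtype_injective _)
    (by rwa [range_subtype, hjj]) h'
  have hNK : normalizer (j.range : Set G) ≤ normalizer (pCore 2 G : Set G) := by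
    rw [normalizer_eq_top (pCore 2 G)]; exact le_top
  obtain ⟨s, hs⟩ := exists_irrAct_normalizer (hQ.toSylow (odd_iff_not_dvd.1 hi)) hNK
    (sInv_of_compat j _ hle hη) (by
      have := sInv_of_compat j' _ (hjj ▸ hle) hη'
      rwa [hjj] at this) h1 h1'
  have hsN : (s : G) ∈ normalizer (j.range : Set G) := s.2
  set j'' : P →* G := (MulAut.conj (s : G)⁻¹).toMonoidHom.comp j' with hj''
  have hj''a : ∀ y, j'' y = (s : G)⁻¹ * j' y * s := fun y => by simp [hj'']
  have hr'' : j''.range = j.range := by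
    ext g
    rw [mem_normalizer_iff.1 hsN g]
    constructor
    · rintro ⟨y, rfl⟩; exact hjj.le ⟨y, by rw [hj''a]; group⟩
    · intro h0
      obtain ⟨y, hy⟩ := hjj.ge h0
      exact ⟨y, by rw [hj''a, hy]; group⟩
  have hη'' : ∀ (l : pCore 2 G) y, (l : G) = j'' y → η.1 l = μ' y := by
    intro l y hy
    have h2 : (s : G) * l * (s : G)⁻¹ ∈ pCore 2 G :=
      (inferInstance : (pCore 2 G).Normal).conj_mem _ l.2 _
    rw [← hη' ⟨_, h2⟩ y (by change (s : G) * l * (s : G)⁻¹ = _; rw [hy, hj''a]; group), ← hs]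
    exact (irrAct_apply_of_eq hNK s η rfl).symm
  have hk : ∀ x, j'' x ∈ inertia (pCore 2 G) η.1 := fun x =>
    le_inertia_of_sInv (sInv_of_compat j _ hle hη) (hr'' ▸ ⟨x, rfl⟩)
  obtain ⟨ψ, a1, a2, a3, a4, a5⟩ := clifford_step j _ hle η hη hj ho h
  obtain ⟨ψ', b1, b2, b3, -, -⟩ := clifford_step j'' _ (hr'' ▸ hle) η hη'' hk ho
    (by rw [hj'', mlt_conj_comp]; exact h')
  obtain rfl : ψ = ψ' := (cliffData_top η (mem_inertia_iff' _ η.1) _).unique_down a3 b3 a1 b1
  obtain ⟨t, ht, h2⟩ := ih _ (hn ▸ card_lt_of_ne_top hI) _ rfl inferInstance (j.codRestrict _ hj)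
    (j''.codRestrict _ hk) (odd_index_codRestrict j _ hj hi)
    (by rw [range_codRestrict, range_codRestrict, hr'']) ψ a4 (a5 hr) a2 b2
  rw [range_codRestrict] at ht
  refine ⟨s * t, mul_mem hsN (coe_mem_normalizer (by rintro _ ⟨x, rfl⟩; exact hj x) ht),
    fun x y hxy => h2 x y (Subtype.ext ?_)⟩
  change j'' y = t * j x * (t : G)⁻¹
  rw [hj''a, hxy]; group

/-- The linear constituents on a Sylow `2`-subgroup of a real character of odd degree are
conjugate under the normaliser. -/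
theorem exists_conj_of_under [Finite G] [Finite P] [hs : Group.IsSolvable G] (hP : IsPGroup 2 P)
    (j : P →* G) (hi : Odd j.range.index) {μ μ' : P →* ℂˣ} {χ : IrrCharacter G}
    (ho : Odd (charDegree (χ : G → ℂ))) (hr : conjIrr χ = χ)
    (h : mlt j (χ : G → ℂ) (linIrr μ : P → ℂ) ≠ 0)
    (h' : mlt j (χ : G → ℂ) (linIrr μ' : P → ℂ) ≠ 0) :
    ∃ g ∈ normalizer (j.range : Set G), ∀ x y, j y = g * j x * g⁻¹ → μ' y = μ x :=
  exists_conj_aux hP μ μ' _ G rfl hs j j hi rfl χ ho hr h h'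

end Cfsg.Agent.H6
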