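import Cfsg.Agent.H6.RealOdd

/-! Real characters of odd degree of solvable groups, continued. -/

set_option autoImplicit false
open Cfsg Cfsg.Agent Subgroup
open scoped ComplexConjugate

namespace Cfsg.Agent.H6

open H88 H89

universe u

variable {G : Type*} [Group G] {P : Type*} [Group P]

theorem exists_aut_of_mem_normalizer (j : P →* G) (hj : Function.Injective j) {g : G}
    (hg : g ∈ normalizer (j.range : Set G)) : ∃ b : P ≃* P, ∀ x, j (b x) = g * j x * g⁻¹ :=
  ⟨(MonoidHom.ofInjective hj).trans ((cj _ g hg).trans (MonoidHom.ofInjective hj).symm),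
    fun _ => MonoidHom.apply_ofInjective_symm hj _⟩

theorem mlt_eq_of_conj [Finite P] (j : P →* G) (hj : Function.Injective j) {g : G}
    (hg : g ∈ normalizer (j.range : Set G)) {μ μ' : P →* ℂˣ}
    (h : ∀ x y, j y = g * j x * g⁻¹ → μ' y = μ x) (χ : IrrCharacter G) :
    mlt j (χ : G → ℂ) (linIrr μ' : P → ℂ) = mlt j (χ : G → ℂ) (linIrr μ : P → ℂ) := by
  obtain ⟨b, hb⟩ := exists_aut_of_mem_normalizer j hj hg
  rw [← mlt_comp_equiv j (fun y => g * y * g⁻¹) b hb]
  congr 1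
  · funext y; exact H5.isClassFunction_of_isIrr χ.2 _ _
  · funext x; rw [linIrr_apply, linIrr_apply, h x _ (hb x)]

theorem inv_eq_of_under [Finite G] [Finite P] [Group.IsSolvable G] (hP : IsPGroup 2 P)
    (j : P →* G) (hj : Function.Injective j) (hi : Odd j.range.index) {μ : P →* ℂˣ}
    {χ : IrrCharacter G} (ho : Odd (charDegree (χ : G → ℂ))) (hr : conjIrr χ = χ)
    (h : mlt j (χ : G → ℂ) (linIrr μ : P → ℂ) ≠ 0) : μ⁻¹ = μ := by
  have h' : mlt j (χ : G → ℂ) (linIrr μ⁻¹ : P → ℂ) ≠ 0 := by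
    rw [← conjIrr_linIrr, ← hr, mlt_conjIrr]; exact h
  obtain ⟨g, hg, h1⟩ := exists_conj_of_under hP j hi ho hr h h'
  obtain ⟨b, hb⟩ := exists_aut_of_mem_normalizer j hj hg
  have h2 : ∀ x, μ (b x) = (μ x)⁻¹ := fun x => by rw [← h1 x _ (hb x)]; simp
  have h3 : ∀ (k : ℕ) x, j (b^[k] x) = g ^ k * j x * (g ^ k)⁻¹ := by
    intro k x
    induction k with
    | zero => simp
    | succ k ih => rw [Function.iterate_succ_apply', hb, ih, pow_succ']; group
  have h4 : ∀ (k : ℕ) x, μ (b^[2 * k + 1] x) = (μ x)⁻¹ := by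
    intro k x
    induction k with
    | zero => simpa using h2 x
    | succ k ih =>
      rw [show 2 * (k + 1) + 1 = 2 * k + 1 + 1 + 1 by ring, Function.iterate_succ_apply',
        Function.iterate_succ_apply', h2, h2, ih, inv_inv]
  obtain ⟨k, hk⟩ : Odd (j.range.relIndex (normalizer (j.range : Set G))) :=
    hi.of_dvd_nat (relIndex_dvd_index_of_le le_normalizer)
  have h5 : g ^ (2 * k + 1) ∈ j.range := by
    have := pow_index_mem (H := j.range.subgroupOf (normalizer (j.range : Set G))) ⟨g, hg⟩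
    rw [← hk]; exact this
  obtain ⟨u, hu⟩ := h5
  ext x
  have h6 : b^[2 * k + 1] x = u * x * u⁻¹ := hj (by rw [h3, ← hu]; simp)
  have h7 := h4 k x
  rw [h6, map_mul, map_mul, map_inv, mul_inv_cancel_comm] at h7
  rw [MonoidHom.inv_apply, ← h7]

theorem mlt_equiv [Finite P] {C : Type*} [Group C] [Finite C] (j : P →* G) (e : C ≃* P)
    (χ : G → ℂ) (β : P → ℂ) :
    mlt (j.comp e.toMonoidHom) χ (fun c => β (e c)) = mlt j χ β := by
  unfold mlt
  congr 2
  let _ := Fintype.ofFinite C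
  let _ := Fintype.ofFinite P
  exact H5.classInner_comp_surjective e.toMonoidHom e.surjective (fun x => χ (j x)) β

theorem sum_mlt_mul_charDegree [Finite G] [Finite P] (j : P →* G) (hj : Function.Injective j)
    (β : IrrCharacter P) :
    ∑ χ : IrrCharacter G, mlt j (χ : G → ℂ) (β : P → ℂ) * charDegree (χ : G → ℂ) =
      j.range.index * charDegree (β : P → ℂ) := by
  classical
  have := Fintype.ofFinite G
  set e := (MonoidHom.ofInjective hj).symm with he
  have hβ : IsCharacter j.range fun c => (β : P → ℂ) (e c) :=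
    H5.isCharacter_comp (H5.isCharacter_of_isIrr β.2) e.toMonoidHom
  obtain ⟨m, h1, h2, -⟩ := exists_nat_mult (isCharacter_indFun j.range hβ)
  rw [charDegree_indFun _ hβ] at h2
  rw [show charDegree (β : P → ℂ) = charDegree fun c => (β : P → ℂ) (e c) from
    (charDegree_comp e.toMonoidHom _).symm, h2]
  refine Finset.sum_congr rfl fun χ _ => ?_
  congr 1
  rw [← mlt_equiv j e]
  apply mlt_eq_of
  have h3 := h1 χ
  rw [classInner_indFun_left _ _ (H5.isClassFunction_of_isIrr χ.2), classInner_swap] at h3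
  have h4 := congrArg (starRingEnd ℂ) h3
  rw [Complex.conj_conj, Complex.conj_natCast] at h4
  rw [← h4]
  congr 1
  funext c
  exact congrArg (χ : G → ℂ) (MonoidHom.apply_ofInjective_symm hj c)

theorem exists_real_odd_over [Finite G] [Finite P] (j : P →* G) (hj : Function.Injective j)
    (hi : Odd j.range.index) {μ : P →* ℂˣ} (hμ : μ⁻¹ = μ) :
    ∃ χ : IrrCharacter G, conjIrr χ = χ ∧ Odd (charDegree (χ : G → ℂ)) ∧
      mlt j (χ : G → ℂ) (linIrr μ : P → ℂ) ≠ 0 := by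
  have h1 := sum_mlt_mul_charDegree j hj (linIrr μ)
  rw [charDegree_linIrr, mul_one] at h1
  obtain ⟨χ, h2, h3⟩ := exists_fixed_of_odd_sum conjIrr conjIrr_conjIrr _ (fun χ => by
    rw [charDegree_conjIrr, ← mlt_conjIrr j χ, conjIrr_linIrr, hμ]) (h1 ▸ hi)
  refine ⟨χ, h2, Nat.Odd.of_mul_right h3, fun h0 => ?_⟩
  rw [h0, zero_mul] at h3
  exact absurd h3 (by decide)

theorem normalizer_le_of_forall_real_aux (n : ℕ) :
    ∀ (G : Type u) [Group G] [Finite G], Nat.card G = n → Group.IsSolvable G →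
      (∀ χ : IrrCharacter G, Odd (charDegree (χ : G → ℂ)) → conjIrr χ = χ) →
      ∀ Q : Subgroup G, IsPGroup 2 Q → Odd Q.index → normalizer (Q : Set G) ≤ Q := by
  have : Fact (Nat.Prime 2) := ⟨Nat.prime_two⟩
  induction n using Nat.strong_induction_on with
  | _ n ih =>
  intro G _ _ hn hs h Q hQ hi
  have quot : ∀ M : Subgroup G, M.Normal → M ≠ ⊥ → normalizer (Q : Set G) ≤ Q ⊔ M := by
    intro M _ hM g hg
    have h1 := ih _ (hn ▸ card_quotient_lt M hM) (G ⧸ M) rfl inferInstance (fun φ hφ => by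
      have h2 := h ⟨_, H5.isIrrCharacter_inflate M φ.2⟩ (by
        change Odd (charDegree fun g : G => (φ : G ⧸ M → ℂ) g)
        rwa [charDegree_inflate])
      apply Subtype.ext
      funext y
      obtain ⟨g, rfl⟩ := QuotientGroup.mk_surjective y
      exact congrFun (congrArg Subtype.val h2) g) (Q.map (QuotientGroup.mk' M)) (hQ.map _)
      (hi.of_dvd_nat (index_map_dvd _ (QuotientGroup.mk'_surjective M)))
    have h2 : g ∈ (Q.map (QuotientGroup.mk' M)).comap (QuotientGroup.mk' M) :=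
      h1 (le_normalizer_map _ ⟨g, hg, rfl⟩)
    rwa [comap_map_eq, QuotientGroup.ker_mk'] at h2
  rcases subsingleton_or_nontrivial G with h0 | h0
  · exact fun g _ => by rw [Subsingleton.elim g 1]; exact one_mem _
  set S := hQ.toSylow (odd_iff_not_dvd.1 hi) with hS
  rcases H22.IsPSolvable.pCore_ne_bot_or (p := 2) (G := G) H22.isPSolvable_of_isSolvable with
    h1 | h1
  · exact (quot _ inferInstance h1).trans (sup_le le_rfl (H22.pCore_le_sylow S))
  set O := pPrimeCore 2 G with hO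
  have hOc : (Nat.card O).Coprime 2 := H22.coprime_card_pPrimeCore
  have hQO : Q ≤ normalizer (O : Set G) := by rw [normalizer_eq_top O]; exact le_top
  have := hQ.isNilpotent
  have h2 := (forall_sInv_iff Q inferInstance O hQO (coprime_card_of_isPGroup hQ hOc)).1
    fun θ hθ => by
      obtain ⟨χ, h3, h4⟩ := exists_over_of_sInv S O hOc θ hθ
      have h5 := odd_iff_not_dvd.2 h4
      exact eq_trivIrr_of_real_of_odd (Nat.coprime_two_right.1 hOc)
        (real_of_under_odd O.subtype (subtype_injective _)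
          (by rw [range_subtype]; infer_instance) (h χ h5) h5 h3)
  intro g hg
  have h3 : g ∈ ((Q ⊔ O : Subgroup G) : Set G) := quot O inferInstance h1 hg
  rw [mul_normal] at h3
  obtain ⟨u, hu, o, ho, rfl⟩ := h3
  have h4 : o ∈ normalizer (Q : Set G) := by
    have := mul_mem (inv_mem (le_normalizer hu)) hg
    simpa using this
  have h5 : o ∈ O ⊓ centralizer (Q : Set G) := by
    refine ⟨ho, fun x hx => ?_⟩
    have h6 : x⁻¹ * (o * x * o⁻¹) ∈ Q ⊓ O :=
      ⟨Q.mul_mem (Q.inv_mem hx) ((mem_normalizer_iff.1 h4 x).1 hx), by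
        have := mul_mem ((inferInstance : O.Normal).conj_mem o ho x⁻¹) (inv_mem ho)
        simpa [mul_assoc] using this⟩
    rw [H22.inf_eq_bot_of_pgroup_coprime hQ hOc, mem_bot] at h6
    calc x * o = x * (x⁻¹ * (o * x * o⁻¹)) * o := by rw [h6, mul_one]
      _ = o * x := by group
  rw [h2, mem_bot] at h5
  change u * o ∈ Q
  rw [h5, mul_one]; exact hu

theorem card_eq_of_rel {α β : Type*} (R : α → β → Prop) (h1 : ∀ a, ∃ b, R a b)
    (h2 : ∀ b, ∃ a, R a b) (h3 : ∀ a b b', R a b → R a b' → b = b')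
    (h4 : ∀ a a' b, R a b → R a' b → a = a') : Nat.card α = Nat.card β := by
  choose f hf using h1
  refine Nat.card_congr (Equiv.ofBijective f ⟨fun a a' h => h4 a a' _ (hf a) (h ▸ hf a'),
    fun b => ?_⟩)
  obtain ⟨a, ha⟩ := h2 b
  exact ⟨a, h3 a _ _ (hf a) ha⟩

/-- Two solvable groups with the same Sylow `2`-subgroup and the same normaliser action on it
have equally many real characters of odd degree. -/
theorem card_real_odd_eq {H : Type*} [Group H] [Finite G] [Finite H] [Finite P]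
    [Group.IsSolvable G] [Group.IsSolvable H] (hP : IsPGroup 2 P) (j : P →* G) (k : P →* H)
    (hj : Function.Injective j) (hk : Function.Injective k) (hi : Odd j.range.index)
    (hi' : Odd k.range.index)
    (h1 : ∀ g ∈ normalizer (j.range : Set G), ∃ h ∈ normalizer (k.range : Set H),
      ∀ x y, k y = h * k x * h⁻¹ → j y = g * j x * g⁻¹)
    (h2 : ∀ h ∈ normalizer (k.range : Set H), ∃ g ∈ normalizer (j.range : Set G),
      ∀ x y, j y = g * j x * g⁻¹ → k y = h * k x * h⁻¹) :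
    Nat.card {χ : IrrCharacter G // conjIrr χ = χ ∧ Odd (charDegree (χ : G → ℂ))} =
      Nat.card {ψ : IrrCharacter H // conjIrr ψ = ψ ∧ Odd (charDegree (ψ : H → ℂ))} := by
  have : Fact (Nat.Prime 2) := ⟨Nat.prime_two⟩
  refine card_eq_of_rel (fun χ ψ => ∃ μ : P →* ℂˣ, mlt j χ.1.1 (linIrr μ : P → ℂ) ≠ 0 ∧
    mlt k ψ.1.1 (linIrr μ : P → ℂ) ≠ 0) ?_ ?_ ?_ ?_
  · rintro ⟨χ, a1, a2⟩
    obtain ⟨μ, hμ⟩ := exists_linear_under hP j (odd_iff_not_dvd.1 a2)
    obtain ⟨ψ, b1, b2, b3⟩ := exists_real_odd_over k hk hi' (inv_eq_of_under hP j hj hi a2 a1 hμ)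
    exact ⟨⟨ψ, b1, b2⟩, μ, hμ, b3⟩
  · rintro ⟨χ, a1, a2⟩
    obtain ⟨μ, hμ⟩ := exists_linear_under hP k (odd_iff_not_dvd.1 a2)
    obtain ⟨ψ, b1, b2, b3⟩ := exists_real_odd_over j hj hi (inv_eq_of_under hP k hk hi' a2 a1 hμ)
    exact ⟨⟨ψ, b1, b2⟩, μ, b3, hμ⟩
  · rintro ⟨χ, a1, a2⟩ ⟨ψ, b1, b2⟩ ⟨ψ', c1, c2⟩ ⟨μ, d1, d2⟩ ⟨μ', e1, e2⟩
    obtain ⟨g, hg, f1⟩ := exists_conj_of_under hP j hi a2 a1 d1 e1
    obtain ⟨h, hh, f2⟩ := h1 g hg
    rw [← mlt_eq_of_conj k hk hh (fun x y hxy => f1 x y (f2 x y hxy)) ψ] at d2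
    exact Subtype.ext (eq_of_over hP k hi' b2 c2 d2 e2 (Or.inl ⟨b1, c1⟩))
  · rintro ⟨ψ, b1, b2⟩ ⟨ψ', c1, c2⟩ ⟨χ, a1, a2⟩ ⟨μ, d2, d1⟩ ⟨μ', e2, e1⟩
    obtain ⟨g, hg, f1⟩ := exists_conj_of_under hP k hi' a2 a1 d1 e1
    obtain ⟨h, hh, f2⟩ := h2 g hg
    rw [← mlt_eq_of_conj j hj hh (fun x y hxy => f1 x y (f2 x y hxy)) ψ] at d2
    exact Subtype.ext (eq_of_over hP j hi b2 c2 d2 e2 (Or.inl ⟨b1, c1⟩))

end Cfsg.Agent.H6
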