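import Cfsg.Agent.H65.SL2Count
import Cfsg.Agent.S2299
import Cfsg.Agent.S2300
import Cfsg.Agent.H88.Deg2
import Cfsg.Prelude.Def_DegreeGraph

set_option autoImplicit false
set_option linter.unusedSectionVars false

open Cfsg Cfsg.Agent Cfsg.Agent.H65 Matrix Matrix.SpecialLinearGroup
open scoped MatrixGroups

namespace Cfsg.Agent.H6

theorem exists_sq_sq_ne_one {H : Type*} [Group H] [IsCyclic H] [Finite H]
    (h : ¬ Nat.card H ∣ 4) : ∃ β : H, (β ^ 2) ^ 2 ≠ 1 := by
  obtain ⟨β, hβ⟩ := IsCyclic.exists_generator (α := H)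
  refine ⟨β, fun h1 => h ?_⟩
  rw [← orderOf_eq_card_of_forall_mem_zpowers hβ]
  apply orderOf_dvd_of_pow_eq_one
  rw [← h1, ← pow_mul]

theorem charDegrees_subset_of_surjective {G Q : Type*} [Group G] [Group Q] (f : G →* Q)
    (hf : Function.Surjective f) : charDegrees Q ⊆ charDegrees G := by
  rintro _ ⟨χ, rfl⟩
  exact ⟨⟨_, H5.isIrrCharacter_comp χ.2 f hf⟩, H88.charDegree_comp f χ⟩

variable {F : Type*} [Field F] [Fintype F]

theorem exists_bs_of_mem_center {z : SL(2, F)} (hz : z ∈ Subgroup.center SL(2, F)) :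
    ∃ a : Fˣ, a = a⁻¹ ∧ z = bs a 0 := by
  obtain ⟨r, hr, hz⟩ := Matrix.SpecialLinearGroup.mem_center_iff.1 hz
  have hr' : r * r = 1 := by simpa [pow_two] using hr
  refine ⟨⟨r, r, hr', hr'⟩, Units.ext rfl, Subtype.ext ?_⟩
  rw [← hz, coe_bs]
  ext i j
  fin_cases i <;> fin_cases j <;> simp

theorem mem_charDegrees_psl {χ : SL(2, F) → ℂ} (hχ : IsIrrCharacter _ χ) {d : ℕ} (hd : χ 1 = d)
    (h : ∀ a : Fˣ, a = a⁻¹ → χ (bs a 0) = d) : d ∈ charDegrees PSL(2, F) := by
  obtain ⟨φ, hφ, he⟩ := H5.exists_isIrr_quotient (Subgroup.center SL(2, F)) hχ (by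
    intro z hz
    obtain ⟨a, ha, rfl⟩ := exists_bs_of_mem_center hz
    rw [h a ha, hd])
  refine ⟨⟨φ, hφ⟩, H88.charDegree_eq_of_eq ?_⟩
  rw [← hd, he]
  rfl

theorem psl2_degrees_mem (h4 : 4 ≤ Fintype.card F) (h5 : Fintype.card F ≠ 5) :
    Fintype.card F ∈ charDegrees PSL(2, F) ∧ Fintype.card F + 1 ∈ charDegrees PSL(2, F) ∧
      Fintype.card F - 1 ∈ charDegrees PSL(2, F) := by
  classical
  obtain ⟨a, b, _, ⟨ι⟩⟩ := H65.exists_quad F
  refine ⟨?_, ?_, ?_⟩
  · refine mem_charDegrees_psl isIrr_StS StS_one fun c hc => ?_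
    rw [← StG_toGL 1, toGL_bs, ← hc, StG_scalar]
    simp
  · have := isCyclic_mulChar F
    obtain ⟨β, hβ⟩ := exists_sq_sq_ne_one (H := MulChar F ℂ) (by
      rw [natCard_mulChar]
      intro h
      have := Nat.le_of_dvd (by norm_num) h
      have : Fintype.card F - 1 = 3 := by omega
      rw [this] at h
      norm_num at h)
    refine mem_charDegrees_psl ((isIrr_PSS_iff _).2 hβ) (by rw [PSS_one]; simp) fun c hc => ?_
    rw [PSS_scalar _ hc, MulChar.pow_apply_coe, ← map_pow]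
    have : (c : F) ^ 2 = 1 := by
      rw [pow_two, ← Units.val_mul]
      nth_rw 2 [hc]
      simp
    rw [this]; simp
  · have := finite_quad a b
    have := fintypeHomKer a b
    have := isCyclic_ker_normU (a := a) (b := b)
    have := isCyclic_monoidHom (normU a b).ker
    obtain ⟨β, hβ⟩ := exists_sq_sq_ne_one (H := (normU a b).ker →* ℂˣ) (by
      rw [natCard_hom_ker]
      intro h
      have := Nat.le_of_dvd (by norm_num) h
      omega)
    have h1 : ((Fintype.card F - 1 : ℕ) : ℂ) = (Fintype.card F : ℂ) - 1 := by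
      rw [Nat.cast_sub (by omega)]; simp
    refine mem_charDegrees_psl (isIrr_CuspS ι hβ) (by rw [CuspS_one, h1]) fun c hc => ?_
    rw [CuspS_scalar ι _ hc, h1, MonoidHom.pow_apply, ← map_pow]
    have : (⟨scU a b c, scU_mem hc⟩ : (normU a b).ker) ^ 2 = 1 := by
      apply Subtype.ext
      change scU a b c ^ 2 = 1
      rw [← map_pow, pow_two]
      nth_rw 2 [hc]
      simp
    rw [this]; simp

theorem charDegrees_between {S : Type*} [Group S]
    (hS : Nonempty (S ≃* PSL(2, F)) ∨ Nonempty (S ≃* SL(2, F))) :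
    charDegrees PSL(2, F) ⊆ charDegrees S ∧ charDegrees S ⊆ charDegrees SL(2, F) := by
  have h := charDegrees_subset_of_surjective (QuotientGroup.mk' (Subgroup.center SL(2, F)))
    (QuotientGroup.mk'_surjective _)
  rcases hS with ⟨⟨e⟩⟩ | ⟨⟨e⟩⟩
  · exact ⟨charDegrees_subset_of_surjective e.toMonoidHom e.surjective,
      (charDegrees_subset_of_surjective e.symm.toMonoidHom e.symm.surjective).trans h⟩
  · exact ⟨h.trans (charDegrees_subset_of_surjective e.toMonoidHom e.surjective),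
      charDegrees_subset_of_surjective e.symm.toMonoidHom e.symm.surjective⟩

theorem sl2_degrees_even [CharP F 2] {d : ℕ} (hd : d ∈ charDegrees SL(2, F)) :
    d = 1 ∨ d = Fintype.card F - 1 ∨ d = Fintype.card F ∨ d = Fintype.card F + 1 := by
  obtain ⟨χ, rfl⟩ := hd
  have h1 : ((Fintype.card F - 1 : ℕ) : ℂ) = (Fintype.card F : ℂ) - 1 := by
    rw [Nat.cast_sub Fintype.card_pos]; simp
  rcases S2300.result.1 _ χ.2 with h | h | h | h
  · exact Or.inl (H88.charDegree_eq_of_eq (by simpa using h))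
  · exact Or.inr (Or.inl (H88.charDegree_eq_of_eq (by rw [h1, h])))
  · exact Or.inr (Or.inr (Or.inl (H88.charDegree_eq_of_eq h)))
  · exact Or.inr (Or.inr (Or.inr (H88.charDegree_eq_of_eq (by rw [h]; simp))))

theorem sl2_degrees_odd (hodd : Odd (Fintype.card F)) {d : ℕ} (hd : d ∈ charDegrees SL(2, F)) :
    d = Fintype.card F ∨ d ∣ Fintype.card F + 1 ∨ d ∣ Fintype.card F - 1 := by
  obtain ⟨χ, rfl⟩ := hd
  have h1 : ((Fintype.card F - 1 : ℕ) : ℂ) = (Fintype.card F : ℂ) - 1 := by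
    rw [Nat.cast_sub Fintype.card_pos]; simp
  obtain ⟨k, hk⟩ := id hodd
  rcases (S2299.result hodd).1 _ χ.2 with h | h | h | h | h | h
  · rw [H88.charDegree_eq_of_eq (n := 1) (by simpa using h)]; simp
  · exact Or.inl (H88.charDegree_eq_of_eq h)
  · rw [H88.charDegree_eq_of_eq (n := Fintype.card F + 1) (by rw [h]; simp)]; simp
  · rw [H88.charDegree_eq_of_eq (n := Fintype.card F - 1) (by rw [h, h1])]; simp
  · rw [H88.charDegree_eq_of_eq h]
    exact Or.inr (Or.inl (Nat.div_dvd_of_dvd ⟨k + 1, by omega⟩))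
  · rw [H88.charDegree_eq_of_eq h]
    exact Or.inr (Or.inr (Nat.div_dvd_of_dvd ⟨k, by omega⟩))

end Cfsg.Agent.H6
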