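/-
A non-normal TI-subgroup `H` that is Hall in its normaliser, in a `π(H)`-separable group.
-/
import Cfsg.Agent.H49.Hall
import Cfsg.Agent.H49.SylowOf
import Cfsg.Agent.H47.Cyc
import Cfsg.Agent.H50.Section
import Cfsg.Agent.H79.HHCore
import Cfsg.Agent.H84.OddCoprime
import Cfsg.Agent.H24.FpfSolv
import Cfsg.Agent.S0205

set_option autoImplicit false
set_option linter.dupNamespace false
set_option linter.unusedSectionVars false

namespace Cfsg.Agent.H6

open Subgroup Cfsg.Agent Cfsg.Agent.H49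

universe u

variable {G : Type u} [Group G] [Finite G] {H : Subgroup G}

theorem ti_mem (hTI : IsTISubset (H : Set G)) {g x : G} (hx : x ∈ H) (h1 : x ≠ 1)
    (hg : g * x * g⁻¹ ∈ H) : g ∈ 𝒩(H) := by
  by_contra h
  exact h1 (hTI g h x hx hg)

theorem ti_norm_le (hTI : IsTISubset (H : Set G)) {K : Subgroup G} (hK : K ≤ H) (h1 : K ≠ ⊥) :
    𝒩(K) ≤ 𝒩(H) := by
  intro g hg
  obtain ⟨⟨x, hx⟩, hx1⟩ := ne_bot_iff_exists_ne_one.1 h1
  exact ti_mem hTI (hK hx) (fun e => hx1 (Subtype.ext e)) (hK ((mem_normalizer_iff.1 hg x).1 hx))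

theorem ti_hall (hTI : IsTISubset (H : Set G)) (hH : IsPiHallOf (primesOf H) H 𝒩(H)) :
    IsPiHallOf (primesOf H) H ⊤ := by
  refine hall_mk le_top (isPi_primesOf H) (isPiNat_compl_iff.2 fun p hp hπ => ?_)
  obtain ⟨P, hP⟩ := exists_sylowOf p H
  have h1 : P ≠ ⊥ := hP.ne_bot hp rfl hπ.2
  have h2 : IsSylowOf p P ⊤ := sylowOf_of_norm_le (hP.trans_sylow hH hπ) le_top
    (inf_le_right.trans (ti_norm_le hTI hP.le h1))
  exact (h2.index_of_le hP.le).not_dvd hp rfl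

theorem isPi_compl_primesOf_iff {K : Subgroup G} :
    IsPi (primesOf H)ᶜ K ↔ (Nat.card K).Coprime (Nat.card H) := by
  refine ⟨fun h => h.coprime' (isPi_primesOf H), fun h p hp hd hπ => ?_⟩
  exact hp.one_lt.ne' (Nat.eq_one_of_dvd_coprimes h hd hπ.2)

theorem sSup_coprime_eq :
    sSup {K : Subgroup G | K.Normal ∧ (Nat.card K).Coprime (Nat.card H)} =
      piCoreOf (primesOf H)ᶜ ⊤ := by
  rw [piCoreOf_top, piCore]
  congr 1
  ext K
  exact and_congr_right fun _ => isPi_compl_primesOf_iff.symm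

theorem ti_sup_norm (hTI : IsTISubset (H : Set G)) (h0 : H ≠ ⊥)
    (hH : IsPiHallOf (primesOf H) H ⊤)
    (hsep : ∃ (n : ℕ) (M : Fin (n + 1) → Subgroup G), M 0 = ⊥ ∧ M (Fin.last n) = ⊤ ∧ Monotone M ∧
      (∀ i, (M i).Normal) ∧
      ∀ i : Fin n, (∀ q : ℕ, q.Prime → q ∣ (M i.castSucc).relIndex (M i.succ) → q ∣ Nat.card H) ∨
        ((M i.castSucc).relIndex (M i.succ)).Coprime (Nat.card H)) :
    piCoreOf (primesOf H)ᶜ ⊤ ⊔ 𝒩(H) = ⊤ := by
  obtain ⟨n, M, hM0, hMn, hmono, hnorm, hstep⟩ := hsep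
  have key : ∃ i : Fin n, IsPi (primesOf H)ᶜ (M i.castSucc) ∧ ¬ IsPi (primesOf H)ᶜ (M i.succ) := by
    by_contra hc
    have : ∀ i, IsPi (primesOf H)ᶜ (M i) := by
      intro i
      induction i using Fin.induction with
      | zero => rw [hM0]; exact isPi_bot _
      | succ i ih => by_contra h; exact hc ⟨i, ih, h⟩
    have h2 := this (Fin.last n)
    rw [hMn] at h2
    exact h0 ((isPi_primesOf H).eq_bot (h2.of_le le_top))
  obtain ⟨i, hK, hL⟩ := key
  have hKL : M i.castSucc ≤ M i.succ := hmono (Fin.castSucc_lt_succ).le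
  have hrel : IsPiNat (primesOf H) ((M i.castSucc).relIndex (M i.succ)) := by
    rcases hstep i with h | h
    · exact fun q hq hd => ⟨hq, h q hq hd⟩
    · exact absurd (hK.of_relIndex' fun q hq hd hπ =>
        hq.one_lt.ne' (Nat.eq_one_of_dvd_coprimes h hd hπ.2)) hL
  have hKn := hnorm i.castSucc
  have hLn := hnorm i.succ
  generalize M i.castSucc = K at *
  generalize M i.succ = L at *
  have nK : ∀ A : Subgroup G, A ≤ 𝒩(K) := fun A => le_top.trans (normal_iff_top_le_norm.1 hKn)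
  have nL : ∀ A : Subgroup G, A ≤ 𝒩(L) := fun A => le_top.trans (normal_iff_top_le_norm.1 hLn)
  have hle : L ≤ K ⊔ H := by
    rw [← relIndex_eq_one]
    refine IsPiNat.eq_one (hrel.of_dvd (relIndex_dvd_of_le_left _ le_sup_left)) ?_
    rw [← relIndex_sup_of_norm (Or.inr (nL _))]
    refine (hH.index_of_le (le_sup_right : H ≤ K ⊔ H)).of_dvd ?_
    exact relIndex_dvd_relIndex_of_le_right le_sup_right le_top
  have hHL : H ⊓ L ≠ ⊥ := by
    intro h
    apply hL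
    have : L = K := by
      rw [← inf_eq_right.2 hle, modular_left (Or.inr (nK _)) hKL, h, sup_bot_eq]
    rwa [this]
  obtain ⟨⟨x, hxH, hxL⟩, hx1⟩ := ne_bot_iff_exists_ne_one.1 hHL
  have hx1' : x ≠ 1 := fun e => hx1 (Subtype.ext e)
  rw [eq_top_iff]
  intro g _
  have hy : zpowers (g * x * g⁻¹) ≤ K ⊔ H := zpowers_le.2 (hle (hLn.conj_mem x hxL g))
  have hπ : IsPi (primesOf H) (zpowers (g * x * g⁻¹)) :=
    isPi_zpowers.2 (isPiElt_conj.2 ((isPi_primesOf H).elt hxH))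
  obtain ⟨k, hk, h⟩ := sz_subJ (nK _) (hπ.coprime hK)
    (Or.inl (solvable_of_abelian (abelian_of_cyclic (H47.cyc_zpowers _)))) (nK H) hy
  have h2 : k * g ∈ 𝒩(H) := by
    refine ti_mem hTI hxH hx1' ?_
    have := h (conj_mem_cj.2 (mem_zpowers _))
    simpa [mul_assoc] using this
  have hKO : K ≤ piCoreOf (primesOf H)ᶜ ⊤ := le_piCoreOf le_top (nK _) hK
  have : g = k⁻¹ * (k * g) := by group
  rw [this]
  exact mul_mem (mem_sup_left (hKO (inv_mem hk))) (mem_sup_right h2)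

theorem ti_fpf (hTI : IsTISubset (H : Set G)) {O : Subgroup G} (hOn : ⊤ ≤ 𝒩(O))
    (hO : IsPi (primesOf H)ᶜ O) (hnn : ¬ O ≤ 𝒩(H)) : H24.Fpf H := by
  have hc : (Nat.card H).Coprime (Nat.card O) := (isPi_primesOf H).coprime hO
  obtain ⟨q, Q, -, -, hQO, -, hHQ, hQC, -, hZ, -⟩ := H79.exists_critical (A := H) (B := H) (N := O)
    (le_top.trans hOn) hc (H84.solvable_or_of_coprime hc) le_rfl le_normalizer
    (fun h => hnn (h.trans (cent_le_norm H)))
  set D := Q ⊓ 𝒞(H) with hD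
  have hQD : Q ≤ 𝒩(D) := norm_of_cent (cent_symm hZ)
  have hHD : H ≤ 𝒩(D) := norm_of_cent (cent_symm inf_le_right)
  have hDO : D ≤ O := inf_le_left.trans hQO
  have hHD' : H ⊓ D = ⊥ := (isPi_primesOf H).inf_eq_bot (hO.of_le hDO)
  have hcent : ∀ h ∈ H, h ≠ 1 → Q ⊓ 𝒞(zpowers h) ≤ D := by
    intro h hh h1
    refine le_inf inf_le_left ?_
    have e1 : Q ⊓ 𝒞(zpowers h) ≤ O ⊓ 𝒩(H) := inf_le_inf hQO
      ((cent_le_norm _).trans (ti_norm_le hTI (zpowers_le.2 hh) (H47.zpowers_ne_bot' h1)))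
    refine e1.trans (commutator_eq_bot_iff.1 (eq_bot_iff.2 ?_))
    rw [← (isPi_primesOf H).inf_eq_bot hO]
    exact le_inf (commutator_le_right_of_norm inf_le_right)
      ((commutator_mono inf_le_left le_rfl).trans (commutator_le_left_of_norm (le_top.trans hOn)))
  have : Finite (Quo D) := Finite.of_surjective _ (coset_surjective D)
  refine (H24.fpf_of_ambient (A := quo H D) (K := quo Q D) ?_ (quo_norm D hHQ) ?_).of_equiv
    (quoEquivOfDisjoint hHD hHD')
  · intro h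
    exact hQC (((quo_eq_bot_iff hQD).1 h).trans inf_le_right)
  · rintro _ ⟨x, hx, rfl⟩ h1
    have hx : (x : G) ∈ H := hx
    have hx1 : (x : G) ≠ 1 := fun e => h1 (by
      have : x = 1 := Subtype.ext e
      rw [this, map_one])
    have hz : zpowers (x : G) ≤ H := zpowers_le.2 hx
    have := coprime_quo_cent (A := zpowers (x : G)) (K := Q) (N := D) (hz.trans hHQ) (hz.trans hHD)
      (coprime_of_le hc hz hDO)
      (Or.inl (solvable_of_abelian (abelian_of_cyclic (H47.cyc_zpowers _))))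
    rw [quo_zpowers] at this
    change quo Q D ⊓ 𝒞[coset D x] = ⊥
    rw [← cent_zpowers, ← this]
    exact quo_eq_bot_of_le (hcent x hx hx1)

theorem cent_le_sup_of_hall {π : Set ℕ} (hH : IsPiHallOf π H ⊤)
    (hG : piCoreOf πᶜ ⊤ ⊔ 𝒩(H) = ⊤) : 𝒞(H) ≤ piCoreOf πᶜ ⊤ ⊔ H := by
  have hZ : IsPiHallOf π (H ⊓ 𝒞(H)) 𝒞(H) := hH.inf_of_norm le_top (cent_le_norm H)
  have hZc : H ⊓ 𝒞(H) ≤ 𝒞(𝒞(H)) := inf_le_left.trans (cent_symm le_rfl)
  obtain ⟨D, hD⟩ := exists_hall_compl hZ (norm_of_cent (cent_symm hZc))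
  have hsup := (hZ.isProd hD).sup_eq
  have hn : 𝒞(H) ≤ 𝒩(D) :=
    hsup.ge.trans (sup_le (norm_of_cent (hZc.trans (cent_anti hD.le))) le_normalizer)
  have hn2 : 𝒩(H) ≤ 𝒩(D) := (norm_cent le_rfl).trans (hD.norm_of_normal hn)
  have hOn := le_norm_piCoreOf πᶜ (⊤ : Subgroup G)
  have hDO : piCoreOf πᶜ ⊤ ⊔ D ≤ piCoreOf πᶜ ⊤ := by
    refine le_piCoreOf le_top ?_ ((piCoreOf_pi _ _).sup hD.pi (Or.inr (le_top.trans hOn)))
    exact hG.ge.trans (sup_le (norm_of_le le_sup_left) (norm_sup (le_top.trans hOn) hn2))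
  exact hsup.ge.trans
    (sup_le (inf_le_left.trans le_sup_right) ((le_sup_right.trans hDO).trans le_sup_left))

theorem der_le_cent_of_isZGroup [IsZGroup H] {Q : Subgroup G} (hQ : Q ≤ 𝒩(H))
    (hc : (Nat.card Q).Coprime (Nat.card H)) : ⁅Q, Q⁆ ≤ 𝒞(H) := by
  refine cent_symm (le_of_sylowOf_le fun p hp _ => ?_)
  have := Fact.mk hp
  obtain ⟨P, hP⟩ := H1.invariant_sylow_exists Q H hQ hc (Or.inr inferInstance) p
  exact ⟨_, sylowOf_map hp P, cent_symm
    (H50.der_cent_cyclic (cyclic_map (IsZGroup.isZGroup p hp P) _) hP)⟩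

theorem ti_solvable {π : Set ℕ} (hH : IsPiHallOf π H ⊤) (hf : H24.Fpf H)
    (hG : piCoreOf πᶜ ⊤ ⊔ 𝒩(H) = ⊤) (hO : Group.IsSolvable (piCoreOf πᶜ (⊤ : Subgroup G)))
    (hs : Group.IsSolvable H) : Group.IsSolvable G := by
  have hN : IsPiHallOf π H 𝒩(H) := hH.sub le_normalizer le_top
  obtain ⟨Q, hQ⟩ := exists_hall_compl hN le_rfl
  have hOn := le_norm_piCoreOf πᶜ (⊤ : Subgroup G)
  have hQs : Group.IsSolvable Q := by
    by_cases h2 : 2 ∣ Nat.card H
    · refine S0205.result ?_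
      rw [← Nat.not_even_iff_odd, even_iff_two_dvd]
      intro h
      exact hQ.pi 2 Nat.prime_two h (hH.pi 2 Nat.prime_two h2)
    · have := hf.isZGroup_of_odd h2
      have h1 := (der_le_cent_of_isZGroup hQ.le (hQ.pi.coprime' hH.pi)).trans
        (cent_le_sup_of_hall hH hG)
      refine solvable_of_quo (N := ⁅Q, Q⁆)
        (solvable_of_le (solvable_sup hO hs (Or.inr (le_top.trans hOn))) h1) norm_der
        (solvable_of_abelian ((quo_abelian_iff norm_der).2 le_rfl))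
  have h3 : Group.IsSolvable ↥𝒩(H) := by
    rw [← (hN.isProd hQ).sup_eq]
    exact solvable_sup hs hQs (Or.inr hQ.le)
  have h4 : Group.IsSolvable (⊤ : Subgroup G) := by
    rw [← hG]
    exact solvable_sup hO h3 (Or.inr (le_top.trans hOn))
  exact Group.isSolvable_of_surjective (f := (⊤ : Subgroup G).subtype) fun x => ⟨⟨x, trivial⟩, rfl⟩

/-- Coprime action on a group `H` with `Fpf H` and cyclic Sylow subgroups. -/
theorem zgroup_coprime_action [IsZGroup H] (hf : H24.Fpf H) {Q : Subgroup G} (hQ : Q ≤ 𝒩(H))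
    (hc : (Nat.card Q).Coprime (Nat.card H)) :
    (Nat.card ↥(H ⊓ 𝒞(Q))).Coprime (Nat.card ↥⁅H, Q⁆) := by
  set L := ⁅H, Q⁆ with hL
  have hLH : L ≤ H := commutator_le_left_of_norm hQ
  have hHL : H ≤ 𝒩(L) := le_norm_commutator_left H Q
  have hQL : Q ≤ 𝒩(L) := le_norm_commutator_right H Q
  have hZL : IsZGroup L := IsZGroup.of_injective (inclusion_injective hLH)
  have hcyc : IsCyclic ↥⁅L, L⁆ := by
    have := cyclic_map (IsZGroup.isCyclic_commutator (G := L)) L.subtype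
    rwa [map_subtype_commutator] at this
  have hcent : L ≤ 𝒞(⁅L, L⁆) := by
    refine le_trans ?_ (H50.der_cent_cyclic (A := H ⊔ Q) hcyc
      (norm_commutator (sup_le hHL hQL) (sup_le hHL hQL)))
    exact commutator_mono le_sup_left le_sup_right
  have hLc : IsCyclic L := by
    have : Group.IsNilpotent L := by
      refine Subgroup.isNilpotent_of_ker_le_center (Abelianization.of : L →* Abelianization L) ?_
      rw [Abelianization.ker_of]
      intro x hx
      rw [mem_center_iff]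
      intro g
      have hx' : (x : G) ∈ ⁅L, L⁆ := by
        rw [← map_subtype_commutator]; exact ⟨x, hx, rfl⟩
      exact Subtype.ext (hcent g.2 x hx').symm
    infer_instance
  have hdp := coprime_abelian_dp (abelian_of_cyclic hLc) hQL (coprime_of_le hc le_rfl hLH)
  have hLL : ⁅L, Q⁆ = L := coprime_comm_comm hQ hc (Or.inr inferInstance)
  have h0 : L ⊓ 𝒞(Q) = ⊥ := by
    have := hdp.2.1
    rwa [hLL, inf_right_comm, inf_idem] at this
  refine Nat.coprime_of_dvd fun p hp h1 h2 => ?_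
  obtain ⟨x, hx, hxp⟩ := exists_orderOf_eq_of_dvd_card hp h1
  obtain ⟨y, hy, hyp⟩ := exists_orderOf_eq_of_dvd_card hp h2
  have hxo : orderOf (⟨x, hx.1⟩ : H) = p := by rw [← hxp, ← orderOf_coe]
  have hyo : orderOf (⟨y, hLH hy⟩ : H) = p := by rw [← hyp, ← orderOf_coe]
  have hn : x ∈ 𝒩(zpowers y) := H47.cyc_norm hLc (zpowers_le.2 hy) (hHL hx.1)
  have hcomm := hf.commute_of_prime (x := ⟨x, hx.1⟩) (y := ⟨y, hLH hy⟩) (hxo ▸ hp) (hyo ▸ hp) (by
    refine mem_normalizer_fintype fun z hz => ?_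
    obtain ⟨k, rfl⟩ := mem_zpowers_iff.1 hz
    obtain ⟨m, hm⟩ := mem_zpowers_iff.1 ((mem_normalizer_iff.1 hn (y ^ k)).1 (zpow_mem_zpowers y k))
    exact mem_zpowers_iff.2 ⟨m, Subtype.ext (by simpa using hm)⟩)
  obtain ⟨k, hk⟩ := mem_zpowers_iff.1 (hf.mem_zpowers_of_commute hcomm
    (by rw [hyo, ← hxo, pow_orderOf_eq_one]))
  have hxL : x ∈ L := by
    have : x = y ^ k := by simpa using (congrArg Subtype.val hk).symm
    rw [this]; exact zpow_mem hy k
  have : x ∈ L ⊓ 𝒞(Q) := ⟨hxL, hx.2⟩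
  rw [h0, mem_bot] at this
  rw [this, orderOf_one] at hxp
  exact hp.one_lt.ne hxp

end Cfsg.Agent.H6
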